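import Groth.Agent.H25Hilb.Sum
import Mathlib

/-! # Coordinate changes putting `x^n` in the leading form, and a low-degree element of `I` -/

set_option backward.isDefEq.respectTransparency.types false

open MvPolynomial W4c1hilbpn

namespace Groth.Agent.H27Hilb0.Coord

variable {k : Type*} [Field k]

/-- `T(I)` does not grow when pushed along an automorphism -/
theorem finrank_tgt_le_comap {σ : Type*} [Finite σ] (e : MvPolynomial σ k ≃ₐ[k] MvPolynomial σ k)
    (I I' : Ideal (MvPolynomial σ k)) (h : ∀ p, p ∈ I' ↔ e.symm p ∈ I) [Module.Finite k (MvPolynomial σ k ⧸ I')] :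
    Module.finrank k (Tgt I) ≤ Module.finrank k (Tgt I') := by
  haveI := Groth.Agent.H25Hilb.finite_tgt (I := I')
  let θ : (MvPolynomial σ k ⧸ I) →ₐ[k] MvPolynomial σ k ⧸ I' :=
    Ideal.quotientMapₐ I' e.toAlgHom fun p hp => (h _).2 (show e.symm (e p) ∈ I by rwa [e.symm_apply_apply])
  have hθ : Function.Injective θ := by
    refine (injective_iff_map_eq_zero θ).2 fun x hx => ?_
    obtain ⟨p, rfl⟩ := Ideal.Quotient.mk_surjective x
    have hx' : Ideal.Quotient.mk I' (e p) = 0 := hx
    rw [Ideal.Quotient.eq_zero_iff_mem] at hx' ⊢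
    simpa using (h _).1 hx'
  let pre : ↥I' → ↥I := fun x => ⟨e.symm x.1, (h _).1 x.2⟩
  let G : Tgt I → Tgt I' := fun φ =>
    { toFun := fun x => θ (φ (pre x))
      map_add' := fun x y => by
        rw [show pre (x + y) = pre x + pre y from Subtype.ext (map_add e.symm x.1 y.1), map_add, map_add]
      map_smul' := fun r x => by
        rw [show pre (r • x) = e.symm r • pre x from Subtype.ext (map_mul e.symm r x.1), map_smul]
        obtain ⟨q, hq⟩ := Ideal.Quotient.mk_surjective (φ (pre x))
        rw [← hq]
        show Ideal.Quotient.mk I' (e (e.symm r * q)) = r • Ideal.Quotient.mk I' (e q)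
        rw [map_mul e, e.apply_symm_apply, map_mul]
        rfl }
  let F : Tgt I →ₗ[k] Tgt I' :=
    { toFun := G
      map_add' := fun φ ψ => LinearMap.ext fun x => map_add θ (φ (pre x)) (ψ (pre x))
      map_smul' := fun c φ => LinearMap.ext fun x => map_smul θ c (φ (pre x)) }
  refine LinearMap.finrank_le_finrank_of_injective (f := F) fun φ ψ hh => LinearMap.ext fun p => ?_
  have hp : pre ⟨e p.1, (h _).2 (by simp [p.2])⟩ = p := Subtype.ext (e.symm_apply_apply _)
  have h1 : θ (φ (pre ⟨e p.1, (h _).2 (by simp [p.2])⟩)) = θ (ψ (pre ⟨e p.1, (h _).2 (by simp [p.2])⟩)) :=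
    LinearMap.congr_fun hh _
  rw [hp] at h1
  exact hθ h1

/-- `x ↦ x, y ↦ y + a x, z ↦ z + b x` -/
noncomputable def shear (v : Fin 3 → k) : MvPolynomial (Fin 3) k →ₐ[k] MvPolynomial (Fin 3) k :=
  aeval fun i => if i = 0 then X 0 else X i + C (v i) * X 0

theorem shear_comp (v w : Fin 3 → k) : (shear v).comp (shear w) = shear (v + w) := by
  refine algHom_ext fun i => ?_
  simp only [shear, AlgHom.comp_apply, aeval_X]
  by_cases h : i = 0
  · simp [h]
  · simp only [if_neg h, map_add, map_mul, aeval_X, aeval_C, algebraMap_eq, Pi.add_apply, if_true, C_add]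
    ring

theorem shear_zero : shear (0 : Fin 3 → k) = AlgHom.id k _ := by
  refine algHom_ext fun i => ?_
  by_cases h : i = 0 <;> simp [shear, h]

/-- the shear as an automorphism -/
noncomputable def shearEquiv (v : Fin 3 → k) : MvPolynomial (Fin 3) k ≃ₐ[k] MvPolynomial (Fin 3) k :=
  AlgEquiv.ofAlgHom (shear v) (shear (-v)) (by rw [shear_comp, add_neg_cancel, shear_zero])
    (by rw [shear_comp, neg_add_cancel, shear_zero])

theorem totalDegree_shear_le (v : Fin 3 → k) (f : MvPolynomial (Fin 3) k) :
    (shear v f).totalDegree ≤ f.totalDegree := by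
  have hX : ∀ i : Fin 3, ((if i = 0 then X 0 else X i + C (v i) * X 0 : MvPolynomial (Fin 3) k)).totalDegree ≤ 1 := by
    intro i
    split_ifs
    · exact (totalDegree_X _).le
    · refine (totalDegree_add _ _).trans (max_le (totalDegree_X _).le ((totalDegree_mul _ _).trans ?_))
      simp
  conv_lhs => rw [f.as_sum, map_sum]
  refine (totalDegree_finsetSum _ _).trans (Finset.sup_le fun d hd => ?_)
  rw [shear, aeval_monomial, algebraMap_eq]
  refine (totalDegree_mul _ _).trans ?_
  rw [totalDegree_C, zero_add]
  refine le_trans ?_ (le_totalDegree hd)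
  refine (totalDegree_finsetProd _ _).trans (Finset.sum_le_sum fun i _ => ?_)
  refine (totalDegree_pow _ _).trans ?_
  calc _ ≤ d i * 1 := Nat.mul_le_mul_left _ (hX i)
    _ = d i := mul_one _

theorem coeff_single_eq_eval {p : MvPolynomial (Fin 3) k} {n : ℕ} (hp : p.IsHomogeneous n) :
    coeff (Finsupp.single 0 n) p = eval (Pi.single 0 1) p := by
  classical
  rw [eval_eq', Finset.sum_eq_single (Finsupp.single (0 : Fin 3) n)]
  · simp [Fin.prod_univ_three]
  · intro d hd hne
    have hdeg : d 0 + d 1 + d 2 = n := by
      have := hp (MvPolynomial.mem_support_iff.1 hd)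
      simpa [Finsupp.weight_apply, Finsupp.sum_fintype, Fin.sum_univ_three, add_assoc] using this
    have : d 1 ≠ 0 ∨ d 2 ≠ 0 := by
      by_contra h
      push Not at h
      refine hne (Finsupp.ext fun i => ?_)
      fin_cases i <;> simp [h.1, h.2] <;> omega
    rcases this with h | h <;> simp [Fin.prod_univ_three, h]
  · intro h; rw [MvPolynomial.notMem_support_iff.1 h, zero_mul]

theorem exists_shear [Infinite k] (f : MvPolynomial (Fin 3) k) (hf : f ≠ 0) :
    ∃ v, coeff (Finsupp.single 0 f.totalDegree) (shear v f) ≠ 0 := by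
  classical
  set n := f.totalDegree
  set h := homogeneousComponent n f with hh
  have hne : h ≠ 0 := by
    obtain ⟨d, hd, hdeg⟩ : ∃ d ∈ f.support, (d.sum fun _ e => e) = n := by
      obtain ⟨d, hd, he⟩ := Finset.exists_mem_eq_sup f.support (MvPolynomial.support_nonempty.2 hf)
        (fun d => d.sum fun _ e => e)
      exact ⟨d, hd, he.symm⟩
    intro h0
    have := congrArg (coeff d) h0
    rw [hh, coeff_homogeneousComponent, if_pos (by simpa [Finsupp.degree_apply, Finsupp.sum] using hdeg),
      coeff_zero] at this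
    exact MvPolynomial.mem_support_iff.1 hd this
  have hhom : h.IsHomogeneous n := homogeneousComponent_isHomogeneous n f
  obtain ⟨u, hu⟩ : ∃ u, eval u h ≠ 0 ∧ u 0 ≠ 0 := by
    by_contra hall
    push Not at hall
    have : X 0 * h = 0 := MvPolynomial.funext fun u => by
      rw [map_zero, map_mul, eval_X]
      by_cases h0 : eval u h = 0
      · rw [h0, mul_zero]
      · rw [hall u h0, zero_mul]
    exact hne ((mul_eq_zero.1 this).resolve_left (X_ne_zero 0))
  refine ⟨fun i => u i / u 0, ?_⟩
  set v : Fin 3 → k := fun i => u i / u 0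
  have hsh : (shear v h).IsHomogeneous n := by
    rw [← one_mul n]; refine hhom.aeval (n := 1) (fun i => if i = 0 then X 0 else X i + C (v i) * X 0) fun i => ?_
    beta_reduce
    split_ifs
    · exact isHomogeneous_X _ _
    · exact (isHomogeneous_X _ _).add ((isHomogeneous_X _ _).C_mul _)
  have htop : coeff (Finsupp.single 0 n) (shear v f) = coeff (Finsupp.single 0 n) (shear v h) := by
    conv_lhs => rw [← sum_homogeneousComponent f, map_sum, coeff_sum]
    rw [Finset.sum_eq_single n]
    · intro j hj hjn
      have hj' : (shear v (homogeneousComponent j f)).IsHomogeneous j := by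
        rw [← one_mul j]; exact (one_mul j).symm ▸ (homogeneousComponent_isHomogeneous j f).aeval (n := 1)
          (fun i => if i = 0 then X 0 else X i + C (v i) * X 0) fun i => by
          split_ifs
          · exact isHomogeneous_X _ _
          · exact (isHomogeneous_X _ _).add ((isHomogeneous_X _ _).C_mul _)
      by_contra hc
      exact hjn (by simpa [Finsupp.weight_apply] using (hj' hc).symm)
    · exact fun hn => absurd (Finset.mem_range.2 (Nat.lt_succ_self n)) hn
  rw [htop, coeff_single_eq_eval hsh]
  have he : eval (Pi.single 0 1) (shear v h) = eval v h := by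
    rw [show eval (Pi.single 0 1) (shear v h) = ((aeval (Pi.single (0 : Fin 3) (1 : k))).comp (shear v)) h from
      (congrFun (aeval_eq_eval _) _).symm]
    rw [show ((aeval (Pi.single (0 : Fin 3) (1 : k))).comp (shear v)) = aeval v from algHom_ext fun i => ?_]
    · rfl
    · by_cases hi : i = 0
      · subst hi; simp [shear, v, hu.2]
      · simp [shear, hi]
  rw [he]
  intro h0
  refine hu.1 ?_
  have hsmul : u = fun i => u 0 * v i := funext fun i => by simp only [v]; field_simp [hu.2]
  rw [hsmul, eval_eq']
  rw [eval_eq'] at h0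
  calc ∑ d ∈ h.support, coeff d h * ∏ i, (u 0 * v i) ^ d i
      = ∑ d ∈ h.support, u 0 ^ n * (coeff d h * ∏ i, v i ^ d i) := by
        refine Finset.sum_congr rfl fun d hd => ?_
        have : ∑ i, d i = n := by
          have := hhom (MvPolynomial.mem_support_iff.1 hd)
          simpa [Finsupp.weight_apply, Finsupp.sum_fintype] using this
        rw [← this, ← Finset.prod_pow_eq_pow_sum, mul_left_comm, ← Finset.prod_mul_distrib]
        simp [mul_pow]
    _ = 0 := by rw [← Finset.mul_sum, h0, mul_zero]

/-- an ideal of colength at most `C(r+2,3)` contains a nonzero element of degree at most `r` -/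
theorem exists_low_degree (I : Ideal (MvPolynomial (Fin 3) k)) [Module.Finite k (MvPolynomial (Fin 3) k ⧸ I)] (r : ℕ)
    (h : Module.finrank k (MvPolynomial (Fin 3) k ⧸ I) < Nat.choose (r + 3) 3) :
    ∃ f ∈ I, f ≠ 0 ∧ f.totalDegree ≤ r := by
  classical
  let ex : Sym (Fin 4) r → (Fin 3 →₀ ℕ) := fun s =>
    Finsupp.equivFunOnFinite.symm fun i => (s : Multiset (Fin 4)).count i.castSucc
  have hsum : ∀ s : Sym (Fin 4) r, ∑ i : Fin 4, (s : Multiset (Fin 4)).count i = r := fun s => by
    rw [Multiset.sum_count_eq_card fun a _ => Finset.mem_univ a]; exact s.2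
  have hex : Function.Injective ex := fun s t he => by
    refine Sym.coe_injective (Multiset.ext.2 fun i => ?_)
    have hc : ∀ j : Fin 3, (s : Multiset (Fin 4)).count j.castSucc = (t : Multiset (Fin 4)).count j.castSucc := fun j => by
      simpa [ex] using DFunLike.congr_fun he j
    induction i using Fin.lastCases with
    | last =>
      have hs := hsum s; have ht := hsum t
      rw [Fin.sum_univ_castSucc] at hs ht
      simp only [hc] at hs
      omega
    | cast j => exact hc j
  have hcard : Nat.choose (r + 3) 3 = Fintype.card (Sym (Fin 4) r) := by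
    rw [Sym.card_sym_eq_choose, Fintype.card_fin, show 4 + r - 1 = r + 3 by omega, Nat.choose_symm_add]
  let L : (Sym (Fin 4) r → k) →ₗ[k] MvPolynomial (Fin 3) k :=
    Fintype.linearCombination k fun s => monomial (ex s) (1 : k)
  have hL : Function.Injective L := by
    apply linearIndependent_iff_injective_fintypeLinearCombination.1 ?_
    exact ((basisMonomials (Fin 3) k).linearIndependent.comp ex hex)
  obtain ⟨g, hg, hg0⟩ : ∃ g, Ideal.Quotient.mk I (L g) = 0 ∧ g ≠ 0 := by
    by_contra hall
    push Not at hall
    have hh := LinearMap.finrank_le_finrank_of_injective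
      (f := (Ideal.Quotient.mkₐ k I).toLinearMap.comp L) ((injective_iff_map_eq_zero _).2 hall)
    rw [Module.finrank_fintype_fun_eq_card, ← hcard] at hh
    omega
  refine ⟨L g, Ideal.Quotient.eq_zero_iff_mem.1 hg, fun h0 => hg0 (hL (h0.trans (map_zero L).symm)), ?_⟩
  simp only [L, Fintype.linearCombination_apply]
  refine (totalDegree_finsetSum _ _).trans (Finset.sup_le fun s _ => (totalDegree_smul_le _ _).trans ?_)
  rw [totalDegree_monomial _ one_ne_zero]
  have hs := hsum s
  rw [Fin.sum_univ_castSucc] at hs
  rw [Finsupp.sum_fintype _ _ fun _ => rfl]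
  simp [ex]
  omega

end Groth.Agent.H27Hilb0.Coord
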