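/-
Degree zero tangent vectors of a monomial ideal from the values on its generators.
-/
import Groth.Agent.H25Hilb.Basic
import Groth.Agent.H25Hilb.Pow

set_option autoImplicit false

open MvPolynomial W4c1hilbpn

namespace Groth.Agent.H27Hilb0

open H25Hilb
open scoped Classical

variable {σ : Type*} {k : Type*} [Field k] {I : Ideal (MvPolynomial σ k)} {ι : Type*} {G : ι → σ →₀ ℕ}

/-- `I` is the monomial ideal generated by `x^(G i)`. -/
structure IsGen (I : Ideal (MvPolynomial σ k)) (G : ι → σ →₀ ℕ) : Prop where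
  mono : IsMonomial I
  iff : ∀ β, β ∈ exps I ↔ ∃ i, G i ≤ β

theorem IsGen.of_span (G : ι → σ →₀ ℕ) :
    IsGen (Ideal.span (Set.range fun i => monomial (G i) (1 : k))) G := by
  have hr : (Set.range fun i => monomial (G i) (1 : k)) = (fun s => monomial s (1 : k)) '' Set.range G :=
    Set.range_comp (fun s => monomial s (1 : k)) G
  have hiff : ∀ p : MvPolynomial σ k, p ∈ Ideal.span (Set.range fun i => monomial (G i) (1 : k)) ↔
      ∀ β ∈ p.support, ∃ i, G i ≤ β := fun p => by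
    rw [hr, mem_ideal_span_monomial_image]; simp
  have hmon : ∀ β, monomial β (1 : k) ∈ Ideal.span (Set.range fun i => monomial (G i) (1 : k)) ↔ ∃ i, G i ≤ β :=
    fun β => by rw [hiff, support_monomial, if_neg one_ne_zero]; simp
  exact ⟨fun p hp β hβ => (hmon β).2 ((hiff p).1 hp β hβ), hmon⟩

theorem IsGen.mem (h : IsGen I G) (i : ι) : G i ∈ exps I := (h.iff _).2 ⟨i, le_rfl⟩

theorem cq_monomial_smul (hI : IsMonomial I) (w : σ →₀ ℕ) {ε : σ →₀ ℕ} (hε : ε ∉ exps I)
    (x : MvPolynomial σ k ⧸ I) :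
    cq hI ε (monomial w (1 : k) • x) = if w ≤ ε then cq hI (ε - w) x else 0 := by
  obtain ⟨p, rfl⟩ := Ideal.Quotient.mk_surjective x
  rw [show monomial w (1 : k) • Ideal.Quotient.mk I p = Ideal.Quotient.mk I (monomial w 1 * p) from rfl,
    cq_mk hI hε, coeff_monomial_mul']
  split_ifs with h
  · rw [one_mul, cq_mk hI fun hh => hε (exps_of_le hh tsub_le_self)]
  · rfl

theorem apply_add (φ : Tgt I) {β : σ →₀ ℕ} (hβ : β ∈ exps I) (u : σ →₀ ℕ) {γ : σ →₀ ℕ} (hγ : γ ∈ exps I)
    (e : γ = u + β) : φ (mon hγ) = monomial u (1 : k) • φ (mon hβ) := by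
  rw [← map_smul]
  exact congrArg φ (Subtype.ext (by simp [mon, e, monomial_mul]))

/-- The coefficient of `x^δ` in the value on the generator `i`. -/
noncomputable def coef (hG : IsGen I G) (i : ι) (δ : σ →₀ ℕ) : Tgt I →ₗ[k] k where
  toFun φ := cq hG.mono δ (φ (mon (hG.mem i)))
  map_add' _ _ := by simp
  map_smul' _ _ := by simp

theorem coef_of_mem (hG : IsGen I G) (i : ι) {δ : σ →₀ ℕ} (hδ : δ ∈ exps I) (φ : Tgt I) : coef hG i δ φ = 0 :=
  cq_of_mem hG.mono hδ _

theorem rel (hG : IsGen I G) (φ : Tgt I) {i j : ι} {δ u w : σ →₀ ℕ} (hu : u + G i = w + G j)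
    (h : δ + u ∉ exps I) :
    coef hG i δ φ = if w ≤ δ + u then coef hG j (δ + u - w) φ else 0 := by
  have hm : u + G i ∈ exps I := exps_of_le (hG.mem i) le_add_self
  show cq hG.mono δ (φ (mon (hG.mem i))) = if w ≤ δ + u then cq hG.mono (δ + u - w) (φ (mon (hG.mem j))) else 0
  rw [← cq_monomial_smul hG.mono w h, ← apply_add φ (hG.mem j) w hm hu, apply_add φ (hG.mem i) u hm rfl,
    cq_monomial_smul hG.mono u h, if_pos le_add_self, add_tsub_cancel_right]

theorem rel_zero (hG : IsGen I G) (φ : Tgt I) {i j : ι} {δ u w : σ →₀ ℕ} (hu : u + G i = w + G j)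
    (h : δ + u ∉ exps I) (hw : ¬ w ≤ δ + u) : coef hG i δ φ = 0 := by
  rw [rel hG φ hu h, if_neg hw]

theorem rel_shift (hG : IsGen I G) (φ : Tgt I) {i j : ι} {δ u w : σ →₀ ℕ} (hu : u + G i = w + G j)
    (h : δ + u ∉ exps I) (hz : w ≤ δ + u → coef hG j (δ + u - w) φ = 0) : coef hG i δ φ = 0 := by
  rw [rel hG φ hu h]
  split_ifs with hw
  · exact hz hw
  · rfl

theorem ext_gen (hG : IsGen I G) {φ : Tgt I} (h : ∀ i δ, δ ∉ exps I → coef hG i δ φ = 0) : φ = 0 :=
  tgt_ext hG.mono fun β hβ => by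
    obtain ⟨i, hi⟩ := (hG.iff β).1 hβ
    have h0 : φ (mon (hG.mem i)) = 0 := quot_ext hG.mono fun δ hδ => by rw [map_zero]; exact h i δ hδ
    rw [apply_add φ (hG.mem i) (β - G i) hβ (tsub_add_cancel_of_le hi).symm, h0, smul_zero]
    rfl

/-- A linear map on `I` from compatible values on its monomials. -/
theorem exists_of_step (hI : IsMonomial I) (v : (σ →₀ ℕ) → MvPolynomial σ k ⧸ I)
    (hv : ∀ β ∈ exps I, ∀ i, v (β + Finsupp.single i 1) = (X i : MvPolynomial σ k) • v β) :
    ∃ φ : Tgt I, ∀ (β : σ →₀ ℕ) (hβ : β ∈ exps I), φ (mon hβ) = v β := by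
  let F : MvPolynomial σ k →ₗ[k] MvPolynomial σ k ⧸ I := (basisMonomials σ k).constr k v
  have hF : ∀ β, F (monomial β 1) = v β := fun β => by
    have := (basisMonomials σ k).constr_basis k v β
    rwa [coe_basisMonomials] at this
  have hX : ∀ (i : σ) (p : MvPolynomial σ k), p ∈ I → F (X i * p) = (X i : MvPolynomial σ k) • F p := by
    intro i p hp
    rw [p.as_sum, Finset.mul_sum, map_sum, map_sum, Finset.smul_sum]
    refine Finset.sum_congr rfl fun β hβ => ?_
    rw [show monomial β (coeff β p) = coeff β p • monomial β (1 : k) by rw [smul_monomial, smul_eq_mul, mul_one],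
      mul_smul_comm, map_smul, map_smul, show (X i : MvPolynomial σ k) * monomial β (1 : k) =
        monomial (β + Finsupp.single i 1) 1 by rw [X, monomial_mul, one_mul, add_comm],
      hF, hF, hv β (hI p hp β hβ) i, smul_comm]
  refine ⟨{ toFun := fun p => F p.1, map_add' := fun p q => by simp, map_smul' := fun q p => ?_ },
    fun β hβ => hF β⟩
  show F (q * p.1) = q • F p.1
  induction q using MvPolynomial.induction_on generalizing p with
  | C a => rw [← MvPolynomial.smul_eq_C_mul, map_smul, ← algebraMap_eq, algebraMap_smul]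
  | add a b ha hb => rw [add_mul, map_add, ha, hb, add_smul]
  | mul_X a i ha =>
    rw [mul_assoc]
    refine (ha ⟨X i * p.1, I.mul_mem_left _ p.2⟩).trans ?_
    show a • F (X i * p.1) = _
    rw [hX i p.1 p.2, smul_smul]

section Fintype

variable [Fintype σ]

/-- The tangent vectors of degree zero. -/
noncomputable def deg0 (I : Ideal (MvPolynomial σ k)) : Submodule k (Tgt I) :=
  ⨆ α : {α : σ → ℤ // ∑ i, α i = 0}, tPiece I α.1

theorem coef_degree (hG : IsGen I G) {φ : Tgt I} (hφ : φ ∈ deg0 I) (i : ι) {δ : σ →₀ ℕ}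
    (h : Finsupp.degree δ ≠ Finsupp.degree (G i)) : coef hG i δ φ = 0 := by
  have hle : deg0 I ≤ LinearMap.ker (coef hG i δ) := iSup_le fun α ψ hψ => by
    rw [LinearMap.mem_ker]
    by_contra hne
    have h1 := (mem_tPiece_iff hG.mono).1 hψ _ (hG.mem i) δ hne
    have h2 : ∑ l, zv δ l = ∑ l, (zv (G i) + α.1) l := by rw [h1]
    simp only [Pi.add_apply, Finset.sum_add_distrib, α.2, add_zero, sum_zv, Nat.cast_inj] at h2
    exact h h2
  exact LinearMap.mem_ker.1 (hle hφ)

/-- The tangent vector translating a block of generators. -/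
theorem exists_block (hG : IsGen I G) (P : ι → Prop) (g h : σ →₀ ℕ) (hd : Finsupp.degree g = Finsupp.degree h)
    (hP : ∀ i, P i → g ≤ G i) (hc : ∀ i j, P i → ¬ P j → G i ⊔ G j - g + h ∈ exps I) :
    ∃ φ ∈ deg0 I, ∀ j δ, δ ∉ exps I → coef hG j δ φ = if P j ∧ G j - g + h = δ then 1 else 0 := by
  let v : (σ →₀ ℕ) → MvPolynomial σ k ⧸ I := fun β =>
    if ∃ i, P i ∧ G i ≤ β then Ideal.Quotient.mk I (monomial (β - g + h) 1) else 0
  have hv : ∀ β ∈ exps I, ∀ l, v (β + Finsupp.single l 1) = (X l : MvPolynomial σ k) • v β := by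
    intro β hβ l
    by_cases h1 : ∃ i, P i ∧ G i ≤ β
    · obtain ⟨i, hi, hle⟩ := h1
      have hg : g ≤ β := (hP i hi).trans hle
      simp only [v]
      rw [if_pos ⟨i, hi, hle.trans le_self_add⟩, if_pos ⟨i, hi, hle⟩]
      show _ = Ideal.Quotient.mk I (X l * monomial (β - g + h) (1 : k))
      rw [X, monomial_mul, one_mul]
      congr 3
      refine Finsupp.ext fun t => ?_
      have := hg t
      simp only [Finsupp.add_apply, Finsupp.tsub_apply]
      omega
    · simp only [v]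
      rw [if_neg h1, smul_zero]
      split_ifs with h2
      · obtain ⟨i, hi, hle⟩ := h2
        obtain ⟨j, hj⟩ := (hG.iff β).1 hβ
        rw [Ideal.Quotient.eq_zero_iff_mem]
        exact exps_of_le (hc i j hi fun hh => h1 ⟨j, hh, hj⟩)
          (add_le_add (tsub_le_tsub_right (sup_le hle (hj.trans le_self_add)) g) le_rfl)
      · rfl
  obtain ⟨φ, hφ⟩ := exists_of_step hG.mono v hv
  have hval : ∀ (β : σ →₀ ℕ) (hβ : β ∈ exps I) (δ : σ →₀ ℕ), δ ∉ exps I →
      cq hG.mono δ (φ (mon hβ)) = if (∃ i, P i ∧ G i ≤ β) ∧ β - g + h = δ then 1 else 0 := by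
    intro β hβ δ hδ
    rw [hφ]
    simp only [v]
    by_cases h1 : ∃ i, P i ∧ G i ≤ β
    · rw [if_pos h1, cq_monomial hG.mono δ _ hδ]; simp [h1]
    · rw [if_neg h1, map_zero]; simp [h1]
  refine ⟨φ, ?_, fun j δ hδ => ?_⟩
  · have hα : ∑ l, (zv h l - zv g l) = 0 := by rw [Finset.sum_sub_distrib, sum_zv, sum_zv, hd, sub_self]
    refine Submodule.mem_iSup_of_mem ⟨fun l => zv h l - zv g l, hα⟩ ((mem_tPiece_iff hG.mono).2 fun β hβ δ hne => ?_)
    have hδ : δ ∉ exps I := fun hh => hne (cq_of_mem hG.mono hh _)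
    rw [hval β hβ δ hδ] at hne
    obtain ⟨⟨i, hi, hle⟩, rfl⟩ := not_not.1 fun hh => hne (if_neg hh)
    funext l
    have := (hP i hi).trans hle l
    simp only [zv, Pi.add_apply, Finsupp.add_apply, Finsupp.tsub_apply]
    omega
  · show cq hG.mono δ (φ (mon (hG.mem j))) = _
    rw [hval _ _ δ hδ]
    refine if_congr ⟨fun ⟨⟨i, hi, hle⟩, he⟩ => ⟨?_, he⟩, fun ⟨hj, he⟩ => ⟨⟨j, hj, le_rfl⟩, he⟩⟩ rfl rfl
    by_contra hj
    have := hc i j hi hj
    rw [sup_eq_right.2 hle, he] at this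
    exact hδ this

/-- The tangent vector supported on one generator. -/
theorem exists_elem (hG : IsGen I G) (i₀ : ι) (δ₀ : σ →₀ ℕ) (hd : Finsupp.degree (G i₀) = Finsupp.degree δ₀)
    (hc : ∀ j, j ≠ i₀ → ∃ l, G i₀ l < G j l ∧ δ₀ + Finsupp.single l 1 ∈ exps I) :
    ∃ φ ∈ deg0 I, ∀ j δ, δ ∉ exps I → coef hG j δ φ = if j = i₀ ∧ δ₀ = δ then 1 else 0 := by
  obtain ⟨φ, hφ, h⟩ := exists_block hG (· = i₀) (G i₀) δ₀ hd (fun i hi => hi ▸ le_rfl) fun i j hi hj => by
    obtain ⟨l, hl, hm⟩ := hc j hj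
    subst hi
    refine exps_of_le hm fun t => ?_
    simp only [Finsupp.add_apply, Finsupp.tsub_apply, Finsupp.sup_apply, Finsupp.single_apply]
    have : G i t ≤ G i t ⊔ G j t := le_sup_left
    split_ifs with ht
    · subst ht
      have := le_sup_right (a := G i l) (b := G j l)
      omega
    · omega
  refine ⟨φ, hφ, fun j δ hδ => ?_⟩
  rw [h j δ hδ]
  refine if_congr ⟨fun ⟨e, he⟩ => ⟨e, ?_⟩, fun ⟨e, he⟩ => ⟨e, ?_⟩⟩ rfl rfl <;> subst e <;> simpa using he

/-- The dimension in terms of coordinates on the values on generators. -/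
theorem finrank_deg0 (hG : IsGen I G) {B : Type*} [Fintype B] (κ : B → ι × (σ →₀ ℕ)) (E : Set B)
    (hinj : ∀ φ ∈ deg0 I, (∀ b, coef hG (κ b).1 (κ b).2 φ = 0) →
      ∀ i δ, δ ∉ exps I → Finsupp.degree δ = Finsupp.degree (G i) → coef hG i δ φ = 0)
    (hsur : ∀ b, ∃ φ ∈ deg0 I, coef hG (κ b).1 (κ b).2 φ = 1 ∧
      ∀ b', b' ≠ b → (b' ∉ E ∨ b ∈ E) → coef hG (κ b').1 (κ b').2 φ = 0) :
    Module.finrank k (deg0 I) = Fintype.card B := by
  let Ψ : ↥(deg0 I) →ₗ[k] (B → k) :=
    LinearMap.pi fun b => (coef hG (κ b).1 (κ b).2).comp (deg0 I).subtype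
  have hΨ : ∀ φ b, Ψ φ b = coef hG (κ b).1 (κ b).2 φ.1 := fun _ _ => rfl
  have hbij : Function.Bijective Ψ := by
    refine ⟨?_, ?_⟩
    · rw [injective_iff_map_eq_zero]
      intro φ hφ
      refine Subtype.ext (ext_gen hG fun i δ hδ => ?_)
      by_cases hd : Finsupp.degree δ = Finsupp.degree (G i)
      · exact hinj φ.1 φ.2 (fun b => congrFun hφ b) i δ hδ hd
      · exact coef_degree hG φ.2 i hd
    · have hmem : ∀ b, Pi.single (M := fun _ : B => k) b 1 ∈ LinearMap.range Ψ := by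
        have hE : ∀ b ∈ E, Pi.single (M := fun _ : B => k) b 1 ∈ LinearMap.range Ψ := fun b hb => by
          obtain ⟨φ, hφ, h1, h2⟩ := hsur b
          refine ⟨⟨φ, hφ⟩, funext fun b' => ?_⟩
          rw [hΨ]
          rcases eq_or_ne b' b with rfl | hne
          · rw [Pi.single_eq_same, h1]
          · rw [Pi.single_eq_of_ne hne, h2 b' hne (Or.inr hb)]
        intro b
        obtain ⟨φ, hφ, h1, h2⟩ := hsur b
        have hsum : Pi.single (M := fun _ : B => k) b 1 = Ψ ⟨φ, hφ⟩ -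
            ∑ b' ∈ Finset.univ.filter (fun b' => b' ∈ E ∧ b' ≠ b),
              Ψ ⟨φ, hφ⟩ b' • Pi.single (M := fun _ : B => k) b' 1 := by
          funext c
          rw [Pi.sub_apply, Finset.sum_apply]
          rcases eq_or_ne c b with rfl | hne
          · rw [Pi.single_eq_same, Finset.sum_eq_zero fun b' hb' => ?_, sub_zero, hΨ, h1]
            rw [Pi.smul_apply, Pi.single_eq_of_ne (Finset.mem_filter.1 hb').2.2.symm, smul_zero]
          · rw [Pi.single_eq_of_ne hne]
            by_cases hc : c ∈ E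
            · rw [Finset.sum_eq_single c (fun b' _ hb' => by simp [hb'.symm]) (fun h => absurd (by simp [hc, hne]) h)]
              simp
            · rw [Finset.sum_eq_zero fun b' hb' => ?_, sub_zero, hΨ, h2 c hne (Or.inl hc)]
              have : b' ≠ c := fun h => hc (h ▸ (Finset.mem_filter.1 hb').2.1)
              simp [this.symm]
        rw [hsum]
        exact sub_mem ⟨_, rfl⟩ (sum_mem fun b' hb' => Submodule.smul_mem _ _ (hE b' (Finset.mem_filter.1 hb').2.1))
      intro f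
      have : f = ∑ b, f b • Pi.single (M := fun _ : B => k) b 1 := by
        funext c; simp [Finset.sum_apply, Pi.single_apply]
      rw [this]
      exact sum_mem fun b _ => Submodule.smul_mem (LinearMap.range Ψ) _ (hmem b)
  rw [(LinearEquiv.ofBijective Ψ hbij).finrank_eq, Module.finrank_fintype_fun_eq_card]

end Fintype

end Groth.Agent.H27Hilb0
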