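import Groth.Agent.H25Hilb.Sum
import Groth.Agent.H25Hilb.Colength

/-! # `dim T(I) ≤ dim T(in I)` for a monomial order, and a colength-preserving initial ideal -/

set_option backward.isDefEq.respectTransparency.types false

open MvPolynomial W4c1hilbpn Groth.Agent.H25Hilb

namespace Groth.Agent.H27Hilb0.Degen

/-- A space of functions is at most as big as the sum of its leading parts. -/
theorem finrank_le_sum_lead {k : Type*} [Field k] {P Λ : Type*} [Fintype P] [LinearOrder Λ] (ω : P → Λ)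
    (V : Submodule k (P → k)) (d : Λ → ℕ)
    (h : ∀ a ∈ Finset.univ.image ω, ∃ U : Submodule k ({p // ω p = a} → k), Module.finrank k U ≤ d a ∧
      ∀ v ∈ V, (∀ p, a < ω p → v p = 0) → (fun p : {p // ω p = a} => v p) ∈ U) :
    Module.finrank k V ≤ ∑ a ∈ Finset.univ.image ω, d a := by
  classical
  suffices H : ∀ A : Finset Λ, A ⊆ Finset.univ.image ω → ∀ W : Submodule k (P → k), W ≤ V →
      (∀ v ∈ W, ∀ p, ω p ∉ A → v p = 0) → Module.finrank k W ≤ ∑ a ∈ A, d a from
    H _ subset_rfl V le_rfl fun _ _ p hp => absurd (Finset.mem_image_of_mem ω (Finset.mem_univ p)) hp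
  intro A
  induction A using Finset.induction_on_max with
  | empty =>
    intro _ W _ hW
    have : W = ⊥ := eq_bot_iff.2 fun v hv => (Submodule.mem_bot k).2 (funext fun p => hW v hv p (by simp))
    rw [this, finrank_bot]; exact Nat.zero_le _
  | insert a s has ih =>
    intro hA W hWV hW
    obtain ⟨U, hU, hlead⟩ := h a (hA (Finset.mem_insert_self a s))
    let π : ↥W →ₗ[k] ({p // ω p = a} → k) := (LinearMap.funLeft k k Subtype.val).comp W.subtype
    have hπ : LinearMap.range π ≤ U := by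
      rintro _ ⟨v, rfl⟩
      refine hlead v.1 (hWV v.2) fun p hp => hW v.1 v.2 p fun hm => ?_
      rcases Finset.mem_insert.1 hm with he | he
      · exact hp.ne' he
      · exact lt_asymm hp (has _ he)
    have hk := ih (fun x hx => hA (Finset.mem_insert_of_mem hx)) ((LinearMap.ker π).map W.subtype)
      (fun _ ⟨w, _, hw⟩ => hw ▸ hWV w.2) (by
        rintro _ ⟨w, hw, rfl⟩ p hp
        by_cases he : ω p = a
        · exact congrFun (LinearMap.mem_ker.1 hw) ⟨p, he⟩
        · exact hW w.1 w.2 p (by simp [he, hp]))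
    rw [Submodule.finrank_map_subtype_eq] at hk
    have e := LinearMap.finrank_range_add_finrank_ker π
    have := Submodule.finrank_mono hπ
    rw [Finset.sum_insert fun ha => lt_irrefl a (has a ha)]
    omega

variable {σ : Type*} {k : Type*} [Field k] (m : MonomialOrder σ) (I : Ideal (MvPolynomial σ k))

open scoped MonomialOrder

/-- the exponents of leading monomials -/
def lead : Set (σ →₀ ℕ) := {β | ∃ f ∈ I, f ≠ 0 ∧ m.degree f = β}

/-- the initial ideal -/
noncomputable def init : Ideal (MvPolynomial σ k) :=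
  Ideal.span ((fun β => monomial β (1 : k)) '' lead m I)

variable {m I}

theorem lead_add {β : σ →₀ ℕ} (h : β ∈ lead m I) (γ : σ →₀ ℕ) : β + γ ∈ lead m I := by
  obtain ⟨f, hf, hne, rfl⟩ := h
  have hm : monomial γ (1 : k) ≠ 0 := by simp
  classical
  exact ⟨monomial γ 1 * f, I.mul_mem_left _ hf, mul_ne_zero hm hne, by
    rw [m.degree_mul hm hne, m.degree_monomial, if_neg one_ne_zero, add_comm]⟩

theorem exps_init : exps (init m I) = lead m I := by
  classical
  ext β
  constructor
  · intro h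
    obtain ⟨b, hb, hle⟩ := mem_ideal_span_monomial_image.1 h β (by simp [support_monomial])
    obtain ⟨e, rfl⟩ := le_iff_exists_add.1 hle
    exact lead_add hb e
  · exact fun h => Ideal.subset_span ⟨β, h, rfl⟩

theorem isMonomial_init : IsMonomial (init m I) := by
  intro p hp β hβ
  obtain ⟨b, hb, hle⟩ := mem_ideal_span_monomial_image.1 hp β hβ
  obtain ⟨e, rfl⟩ := le_iff_exists_add.1 hle
  exact exps_init.symm.subset (lead_add hb e)

variable (m I) in
/-- polynomials supported on standard monomials -/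
noncomputable def stdPoly : Submodule k (MvPolynomial σ k) := restrictSupport k (lead m I)ᶜ

theorem degree_not_mem {r : MvPolynomial σ k} (h : r ∈ stdPoly m I) (h0 : r ≠ 0) : m.degree r ∉ lead m I :=
  h (m.degree_mem_support h0)

theorem exists_rem (f : MvPolynomial σ k) :
    ∃ r ∈ stdPoly m I, f - r ∈ I ∧ ∀ δ ∈ r.support, δ ≼[m] m.degree f := by
  classical
  obtain ⟨g, r, hf, hdeg, hr⟩ := m.div_set (B := {b | b ∈ I ∧ b ≠ 0})
    (fun b hb => (m.leadingCoeff_ne_zero_iff.2 hb.2).isUnit) f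
  refine ⟨r, fun c hc ⟨b, hb, hb0, hbc⟩ => hr c hc b ⟨hb, hb0⟩ (le_of_eq hbc), ?_, fun δ hδ => ?_⟩
  · rw [hf, add_sub_cancel_right, Finsupp.linearCombination_apply]
    exact I.sum_mem fun b _ => I.mul_mem_left _ b.2.1
  · by_contra hlt
    rw [not_le] at hlt
    have h1 : coeff δ f = 0 := m.coeff_eq_zero_of_lt hlt
    rw [hf, coeff_add, Finsupp.linearCombination_apply, Finsupp.sum, coeff_sum, Finset.sum_eq_zero, zero_add] at h1
    · exact MvPolynomial.mem_support_iff.1 hδ h1
    · intro b _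
      refine m.coeff_eq_zero_of_lt (lt_of_le_of_lt ?_ hlt)
      rw [smul_eq_mul, mul_comm]
      exact hdeg b

theorem eq_zero_of_mem {r : MvPolynomial σ k} (h : r ∈ stdPoly m I) (h' : r ∈ I) : r = 0 := by
  by_contra h0
  exact degree_not_mem h h0 ⟨r, h', h0, rfl⟩

variable (m I) in
/-- `S ⧸ I` as polynomials on standard monomials -/
noncomputable def stdEquiv : ↥(stdPoly m I) ≃ₗ[k] MvPolynomial σ k ⧸ I :=
  LinearEquiv.ofBijective ((Ideal.Quotient.mkₐ k I).toLinearMap.comp (stdPoly m I).subtype) ⟨by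
    refine (injective_iff_map_eq_zero _).2 fun r hr => Subtype.ext ?_
    exact eq_zero_of_mem r.2 (Ideal.Quotient.eq_zero_iff_mem.1 hr), fun x => by
    obtain ⟨f, rfl⟩ := Ideal.Quotient.mk_surjective x
    obtain ⟨r, hr, hfr, -⟩ := exists_rem (m := m) (I := I) f
    exact ⟨⟨r, hr⟩, (Ideal.Quotient.mk_eq_mk_iff_sub_mem _ _).2 (by simpa using I.neg_mem hfr)⟩⟩

variable (m I) in
/-- the normal form -/
noncomputable def nf : (MvPolynomial σ k ⧸ I) →ₗ[k] MvPolynomial σ k :=
  (stdPoly m I).subtype.comp (stdEquiv m I).symm.toLinearMap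

theorem mk_nf (x : MvPolynomial σ k ⧸ I) : Ideal.Quotient.mk I (nf m I x) = x :=
  (stdEquiv m I).apply_symm_apply x

theorem nf_mk_of_mem {r : MvPolynomial σ k} (h : r ∈ stdPoly m I) : nf m I (Ideal.Quotient.mk I r) = r :=
  congrArg Subtype.val ((stdEquiv m I).symm_apply_apply ⟨r, h⟩)

theorem nf_supp (g : MvPolynomial σ k) :
    ∀ δ ∈ (nf m I (Ideal.Quotient.mk I g)).support, δ ≼[m] m.degree g := by
  obtain ⟨r, hr, hgr, hd⟩ := exists_rem (m := m) (I := I) g
  rw [(Ideal.Quotient.mk_eq_mk_iff_sub_mem g r).2 hgr, nf_mk_of_mem hr]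
  exact hd

theorem coeff_nf_top (g : MvPolynomial σ k) {δ : σ →₀ ℕ} (hδ : δ ∉ lead m I)
    (hg : ∀ δ' ∈ g.support, δ' ≼[m] δ) : coeff δ (nf m I (Ideal.Quotient.mk I g)) = coeff δ g := by
  classical
  by_contra hne
  set r := nf m I (Ideal.Quotient.mk I g)
  have hmem : g - r ∈ I := (Ideal.Quotient.mk_eq_mk_iff_sub_mem _ _).1 (mk_nf _).symm
  have hc : coeff δ (g - r) ≠ 0 := by rw [coeff_sub]; exact sub_ne_zero.2 (Ne.symm hne)
  have h0 : g - r ≠ 0 := fun h => hc (by rw [h, coeff_zero])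
  have hd : m.degree (g - r) ≼[m] δ := by
    refine m.degree_le_iff.2 fun δ' hδ' => ?_
    rcases Finset.mem_union.1 (support_sub σ g r hδ') with h | h
    · exact hg δ' h
    · exact (nf_supp g δ' h).trans (m.degree_le_iff.2 hg)
  have : m.degree (g - r) = δ := m.toSyn.injective (le_antisymm hd (m.le_degree (MvPolynomial.mem_support_iff.2 hc)))
  exact hδ ⟨_, hmem, h0, this⟩

theorem exists_monic {β : σ →₀ ℕ} (h : β ∈ lead m I) :
    ∃ f : ↥I, f.1 ≠ 0 ∧ m.degree f.1 = β ∧ coeff β f.1 = 1 := by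
  obtain ⟨f, hf, hne, rfl⟩ := h
  have hc : (m.leadingCoeff f)⁻¹ ≠ 0 := inv_ne_zero (m.leadingCoeff_ne_zero_iff.2 hne)
  refine ⟨⟨(m.leadingCoeff f)⁻¹ • f, Submodule.smul_of_tower_mem I _ hf⟩, smul_ne_zero hc hne, ?_, ?_⟩
  · exact m.degree_smul_of_isRegular (isRegular_iff_ne_zero.2 hc)
  · exact (coeff_smul _ _ _).trans (inv_mul_cancel₀ (m.leadingCoeff_ne_zero_iff.2 hne))

open scoped Classical in
variable (m I) in
/-- a chosen monic element of `I` with leading exponent `β` -/
noncomputable def mf (β : σ →₀ ℕ) : ↥I := if h : β ∈ lead m I then (exists_monic h).choose else 0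

theorem mf_spec {β : σ →₀ ℕ} (h : β ∈ lead m I) :
    (mf m I β).1 ≠ 0 ∧ m.degree (mf m I β).1 = β ∧ coeff β (mf m I β).1 = 1 := by
  rw [mf, dif_pos h]; exact (exists_monic h).choose_spec

/-- `φ` shifts leading exponents by at most `δ₀ - β₀` -/
def Bd (φ : Tgt I) (β₀ δ₀ : σ →₀ ℕ) : Prop :=
  ∀ f : ↥I, f.1 ≠ 0 → ∀ δ ∈ (nf m I (φ f)).support, δ + β₀ ≼[m] m.degree f.1 + δ₀

theorem reduce_lead {B : Set (σ →₀ ℕ)} (hB : B ⊆ lead m I) (hgen : ∀ β ∈ lead m I, ∃ b ∈ B, b ≤ β)
    (P : ↥I → Prop) (h0 : ∀ f : ↥I, f.1 = 0 → P f)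
    (hstep : ∀ (f f' : ↥I) (b : σ →₀ ℕ) (γ : σ →₀ ℕ) (c : k), b ∈ B → b + γ = m.degree f.1 →
      f = monomial γ c • mf m I b + f' → (f'.1 = 0 ∨ m.degree f'.1 ≺[m] m.degree f.1) → P f' → P f) :
    ∀ f, P f := by
  classical
  intro f
  generalize he : m.toSyn (m.degree f.1) = e
  induction e using WellFoundedLT.induction generalizing f with
  | ind e ih =>
  subst he
  by_cases hf : f.1 = 0
  · exact h0 f hf
  obtain ⟨b, hb, hle⟩ := hgen (m.degree f.1) ⟨f.1, f.2, hf, rfl⟩
  obtain ⟨γ, hγ⟩ := le_iff_exists_add.1 hle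
  obtain ⟨h1, h2, h3⟩ := mf_spec (hB hb)
  let c := m.leadingCoeff f.1
  let f' : ↥I := f - monomial γ c • mf m I b
  have hlt : f'.1 = 0 ∨ m.degree f'.1 ≺[m] m.degree f.1 := by
    by_cases h : f'.1 = 0
    · exact Or.inl h
    refine Or.inr (lt_of_le_of_ne ?_ fun he => ?_)
    · refine m.degree_le_iff.2 fun δ hδ => ?_
      show δ ≼[m] _
      rcases Finset.mem_union.1 (support_sub σ f.1 (monomial γ c * (mf m I b).1) hδ) with h | h
      · exact m.le_degree h
      · refine (m.le_degree h).trans (m.degree_mul_le.trans ?_)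
        rw [map_add, hγ, h2, map_add, add_comm]
        exact add_le_add le_rfl (m.degree_monomial_le _)
    · have := m.toSyn.injective he
      apply MvPolynomial.mem_support_iff.1 (m.degree_mem_support h)
      rw [this]
      show coeff _ (f.1 - monomial γ c * (mf m I b).1) = 0
      rw [coeff_sub, hγ, add_comm b γ, coeff_monomial_mul, h3, mul_one, ← add_comm b γ, ← hγ]
      exact sub_self _
  refine hstep f f' b γ c hb hγ.symm (by simp [f']) hlt ?_
  rcases hlt with h | h
  · exact h0 _ h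
  · exact ih _ h f' rfl

theorem bd_of_gens {B : Set (σ →₀ ℕ)} (hB : B ⊆ lead m I) (hgen : ∀ β ∈ lead m I, ∃ b ∈ B, b ≤ β)
    {φ : Tgt I} {β₀ δ₀ : σ →₀ ℕ} (h : ∀ b ∈ B, ∀ δ ∈ (nf m I (φ (mf m I b))).support, δ + β₀ ≼[m] b + δ₀) :
    Bd (m := m) φ β₀ δ₀ := by
  classical
  intro f hf
  revert hf
  refine reduce_lead hB hgen (P := fun f => f.1 ≠ 0 → ∀ δ ∈ (nf m I (φ f)).support, δ + β₀ ≼[m] m.degree f.1 + δ₀)
    (fun f h0 hne => absurd h0 hne) ?_ f
  intro f f' b γ c hb hdeg hf hlt ih _ δ hδ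
  rw [hf, map_add, map_smul, map_add] at hδ
  rcases Finset.mem_union.1 (support_add hδ) with hδ | hδ
  · set r := nf m I (φ (mf m I b)) with hr
    have hx : monomial γ c • φ (mf m I b) = Ideal.Quotient.mk I (monomial γ c * r) := by
      rw [map_mul, hr, mk_nf]; rfl
    rw [hx] at hδ
    have h1 := nf_supp _ δ hδ
    have hne : monomial γ c * r ≠ 0 := fun h0 => by rw [h0, map_zero, map_zero] at hδ; simp at hδ
    obtain ⟨x, hx', y, hy, hxy⟩ := Finset.mem_add.1 (support_mul _ _ (m.degree_mem_support hne))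
    rw [Finset.mem_singleton.1 (support_monomial_subset hx')] at hxy
    have h2 := h b hb y hy
    simp only [map_add] at h2 h1 ⊢
    rw [← hxy, map_add] at h1
    rw [← hdeg, map_add]
    calc m.toSyn δ + m.toSyn β₀ ≤ m.toSyn γ + m.toSyn y + m.toSyn β₀ := add_le_add h1 le_rfl
      _ = m.toSyn γ + (m.toSyn y + m.toSyn β₀) := add_assoc _ _ _
      _ ≤ m.toSyn γ + (m.toSyn b + m.toSyn δ₀) := add_le_add le_rfl h2
      _ = m.toSyn b + m.toSyn γ + m.toSyn δ₀ := by abel
  · rcases hlt with h0 | h0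
    · rw [show f' = 0 from Subtype.ext h0, map_zero, map_zero] at hδ; simp at hδ
    · have hne : f'.1 ≠ 0 := fun he => by
        rw [show f' = 0 from Subtype.ext he, map_zero, map_zero] at hδ; simp at hδ
      refine (ih hne δ hδ).trans ?_
      rw [map_add, map_add]
      exact add_le_add h0.le le_rfl

theorem eq_zero_of_gens {B : Set (σ →₀ ℕ)} (hB : B ⊆ lead m I) (hgen : ∀ β ∈ lead m I, ∃ b ∈ B, b ≤ β)
    {φ : Tgt I} (h : ∀ b ∈ B, φ (mf m I b) = 0) : φ = 0 := by
  refine LinearMap.ext (reduce_lead hB hgen (fun f => φ f = (0 : Tgt I) f) (fun f h0 => ?_) ?_)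
  · rw [show f = 0 from Subtype.ext h0, map_zero, map_zero]
  · intro f f' b γ c hb _ hf _ ih
    rw [hf, map_add, map_smul, h b hb, smul_zero, zero_add, ih]
    simp

variable [Finite σ]

/-- the leading symbol of `φ` -/
theorem exists_symbol {φ : Tgt I} {β₀ δ₀ : σ →₀ ℕ} (h : Bd (m := m) φ β₀ δ₀) :
    ∃ ψ ∈ tPiece (init m I) (zv δ₀ - zv β₀), ∀ β ∈ lead m I, ∀ δ, ∀ (hb : β ∈ exps (init m I)),
      δ ∉ lead m I → zv δ = zv β + (zv δ₀ - zv β₀) →
        cq isMonomial_init δ (ψ (mon hb)) = coeff δ (nf m I (φ (mf m I β))) := by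
  classical
  set α := zv δ₀ - zv β₀ with hα
  set J := init m I
  let ti : (σ → ℤ) → (σ →₀ ℕ) := fun γ => Finsupp.equivFunOnFinite.symm fun i => (γ i).toNat
  have hti : ∀ x : σ →₀ ℕ, ti (zv x) = x := fun x => Finsupp.ext fun i => by simp [ti, zv]
  let c : (σ → ℤ) → k := fun γ => if Good J α γ then coeff (ti γ) (nf m I (φ (mf m I (ti (γ - α))))) else 0
  have hcv : ∀ β δ, β ∈ exps J → δ ∉ exps J → zv δ = zv β + α →
      c (zv δ) = coeff δ (nf m I (φ (mf m I β))) := fun β δ hβ hδ he => by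
    simp only [c, if_pos (good_zv hβ hδ he), hti]
    rw [show zv δ - α = zv β by rw [he, add_sub_cancel_right], hti]
  have hc : c ∈ cfun J α := by
    refine ⟨fun γ hg => by simp only [c, if_neg hg], fun β hβ i hg => ?_⟩
    obtain ⟨β', δ', hβ', hδ', h1, h2⟩ := hg
    obtain rfl : β' = β + Finsupp.single i 1 := zv_inj (by
      rw [zv_add_single]; refine add_right_cancel (b := α) ?_; rw [← h2, ← h1]; abel)
    rw [h1, hcv _ _ hβ' hδ' h2]
    have hL : β ∈ lead m I := exps_init (m := m) (I := I) ▸ hβ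
    have hL' : β + Finsupp.single i 1 ∈ lead m I := lead_add hL _
    have hN : δ' ∉ lead m I := exps_init (m := m) (I := I) ▸ hδ'
    -- the key comparison
    have hkey : m.toSyn δ' + m.toSyn β₀ = m.toSyn (β + Finsupp.single i 1) + m.toSyn δ₀ := by
      rw [← map_add, ← map_add]
      refine congrArg m.toSyn (zv_inj ?_)
      funext l
      have := congrFun h2 l
      simp only [hα, zv, Pi.add_apply, Pi.sub_apply, Finsupp.add_apply, Nat.cast_add] at this ⊢
      omega
    obtain ⟨q1, q2, q3⟩ := mf_spec hL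
    obtain ⟨p1, p2, p3⟩ := mf_spec hL'
    set f' : ↥I := mf m I (β + Finsupp.single i 1) - (X i : MvPolynomial σ k) • mf m I β with hf'
    have hlow : coeff δ' (nf m I (φ f')) = 0 := by
      by_contra hne
      have h0 : f'.1 ≠ 0 := fun h0 => hne (by rw [show f' = 0 from Subtype.ext h0, map_zero, map_zero, coeff_zero])
      have hb := h f' h0 δ' (MvPolynomial.mem_support_iff.2 hne)
      rw [map_add, map_add, hkey, add_le_add_iff_right] at hb
      have hd : m.degree f'.1 ≼[m] β + Finsupp.single i 1 := by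
        refine m.degree_le_iff.2 fun δ hδ => ?_
        rcases Finset.mem_union.1 (support_sub σ _ _ hδ) with hh | hh
        · exact (m.le_degree hh).trans (le_of_eq (congrArg _ p2))
        · refine (m.le_degree hh).trans (m.degree_mul_le.trans ?_)
          rw [map_add, q2, map_add, add_comm]
          exact add_le_add le_rfl m.degree_X_le_single
      have he : m.degree f'.1 = β + Finsupp.single i 1 := m.toSyn.injective (le_antisymm hd hb)
      apply MvPolynomial.mem_support_iff.1 (m.degree_mem_support h0)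
      rw [he]
      show coeff _ ((mf m I (β + Finsupp.single i 1)).1 - X i * (mf m I β).1) = 0
      rw [coeff_sub, p3, add_comm β, coeff_X_mul, q3, sub_self]
    have hsplit : mf m I (β + Finsupp.single i 1) = (X i : MvPolynomial σ k) • mf m I β + f' := by
      rw [hf']; abel
    rw [hsplit, map_add, map_smul, map_add, coeff_add, hlow, add_zero]
    set r := nf m I (φ (mf m I β)) with hr
    have hx : (X i : MvPolynomial σ k) • φ (mf m I β) = Ideal.Quotient.mk I (X i * r) := by
      rw [map_mul, hr, mk_nf]; rfl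
    rw [hx, coeff_nf_top _ hN]
    · by_cases hz : δ' i = 0
      · rw [coeff_X_mul', if_neg (by simp [hz])]
        simp only [c]
        rw [if_neg]
        rintro ⟨β'', δ'', -, -, h3, h4⟩
        have e1 := congrFun h1 i
        have e3 := congrFun h3 i
        simp [zv, hz] at e1 e3
        omega
      · obtain ⟨δ, rfl⟩ : ∃ δ, δ' = δ + Finsupp.single i 1 :=
          ⟨δ' - Finsupp.single i 1, (tsub_add_cancel_of_le (Finsupp.single_le_iff.2 (Nat.one_le_iff_ne_zero.2 hz))).symm⟩
        have h3 : zv δ = zv β + α := by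
          rw [zv_add_single, zv_add_single] at h2
          exact add_right_cancel (h2.trans (by abel : zv β + Pi.single i 1 + α = zv β + α + Pi.single i 1))
        rw [← h3, hcv β δ hβ (fun hh => hδ' (exps_add hh _)) h3, add_comm δ, coeff_X_mul]
    · intro δ'' hδ''
      obtain ⟨x, hx', y, hy, hxy⟩ := Finset.mem_add.1 (support_mul _ _ hδ'')
      rw [support_X, Finset.mem_singleton] at hx'
      subst hx'
      have hb := h (mf m I β) q1 y hy
      rw [q2, map_add, map_add] at hb
      refine le_of_add_le_add_right (a := m.toSyn β₀) ?_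
      rw [hkey, ← hxy, map_add, map_add, add_assoc]
      exact (add_le_add le_rfl hb).trans (le_of_eq (by abel))
  refine ⟨((pieceEquiv isMonomial_init α).symm ⟨c, hc⟩).1, ((pieceEquiv isMonomial_init α).symm ⟨c, hc⟩).2,
    fun β hβ δ hb hδ he => ?_⟩
  have hδ' : δ ∉ exps J := exps_init (m := m) (I := I) ▸ hδ
  rw [← toFun_apply isMonomial_init _ hb hδ' he, ← hcv β δ hb hδ' he]
  exact congrFun (congrArg Subtype.val ((pieceEquiv isMonomial_init α).apply_symm_apply ⟨c, hc⟩)) (zv δ)

variable (m I) [Module.Finite k (MvPolynomial σ k ⧸ I)]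

omit [Finite σ] in
theorem finite_std : Finite {δ : σ →₀ ℕ // δ ∉ lead m I} := by
  refine LinearIndependent.finite (R := k) (M := MvPolynomial σ k ⧸ I) (f := fun δ : {δ : σ →₀ ℕ // δ ∉ lead m I} =>
    stdEquiv m I (basisRestrictSupport k (lead m I)ᶜ δ)) ?_
  exact (basisRestrictSupport k (lead m I)ᶜ).linearIndependent.map' _ (stdEquiv m I).ker

omit [Finite σ] in
theorem finite_init : Module.Finite k (MvPolynomial σ k ⧸ init m I) := by
  classical
  haveI := finite_std m I
  haveI : Module.Finite k ↥(stdPoly m I) := Module.Finite.equiv (stdEquiv m I).symm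
  refine Module.Finite.of_surjective
    ((Ideal.Quotient.mkₐ k (init m I)).toLinearMap.comp (stdPoly m I).subtype) fun x => ?_
  obtain ⟨f, rfl⟩ := Ideal.Quotient.mk_surjective x
  refine ⟨⟨∑ δ ∈ f.support with δ ∉ lead m I, monomial δ (coeff δ f), Submodule.sum_mem _ fun δ hδ => ?_⟩, ?_⟩
  · intro e he
    rw [Finset.mem_singleton.1 (support_monomial_subset he)]
    exact (Finset.mem_filter.1 hδ).2
  · refine (Ideal.Quotient.mk_eq_mk_iff_sub_mem _ _).2 ?_
    show (∑ δ ∈ f.support with δ ∉ lead m I, monomial δ (coeff δ f)) - f ∈ init m I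
    conv => enter [2, 2]; rw [f.as_sum, ← Finset.sum_filter_add_sum_filter_not f.support (fun δ => δ ∉ lead m I)]
    rw [sub_add_cancel_left]
    refine Submodule.neg_mem _ (Submodule.sum_mem _ fun δ hδ => ?_)
    rw [show monomial δ (coeff δ f) = C (coeff δ f) * monomial δ 1 by rw [C_mul_monomial, mul_one]]
    exact Ideal.mul_mem_left _ _ (Ideal.subset_span ⟨δ, not_not.1 (Finset.mem_filter.1 hδ).2, rfl⟩)

omit [Finite σ] in
theorem finrank_init : Module.finrank k (MvPolynomial σ k ⧸ init m I) = Module.finrank k (MvPolynomial σ k ⧸ I) := by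
  classical
  haveI := finite_std m I
  haveI : Finite {δ : σ →₀ ℕ // δ ∉ exps (init m I)} := by rw [exps_init]; infer_instance
  rw [finrank_quot_eq_card isMonomial_init, exps_init, ← (stdEquiv m I).finrank_eq,
    stdPoly, Module.finrank_eq_nat_card_basis (basisRestrictSupport k (lead m I)ᶜ)]
  rfl

/-- Upper semicontinuity of the tangent space under a Gröbner degeneration. -/
theorem finrank_tgt_le_init : Module.finrank k (Tgt I) ≤ Module.finrank k (Tgt (init m I)) := by
  classical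
  haveI := finite_init m I
  haveI := finite_tgt (I := init m I)
  haveI := finite_std m I
  haveI := Fintype.ofFinite σ
  haveI := Fintype.ofFinite {δ : σ →₀ ℕ // δ ∉ lead m I}
  let B : Finset (σ →₀ ℕ) := (insert 0 ((Finset.univ : Finset ({δ : σ →₀ ℕ // δ ∉ lead m I} × σ)).image
    fun x => x.1.1 + Finsupp.single x.2 1)).filter (· ∈ lead m I)
  have hB : (B : Set (σ →₀ ℕ)) ⊆ lead m I := fun b hb => (Finset.mem_filter.1 hb).2
  have hgen : ∀ β ∈ lead m I, ∃ b ∈ (B : Set (σ →₀ ℕ)), b ≤ β := by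
    intro β hβ
    induction β using WellFoundedLT.induction with
    | ind β ih =>
    by_cases hb : β ∈ B
    · exact ⟨β, hb, le_rfl⟩
    · have h0 : β ≠ 0 := fun h => hb (Finset.mem_filter.2 ⟨by rw [h]; exact Finset.mem_insert_self 0 _, hβ⟩)
      obtain ⟨i, hi⟩ := Finsupp.ne_iff.1 h0
      have hle : Finsupp.single i 1 ≤ β := Finsupp.single_le_iff.2 (Nat.one_le_iff_ne_zero.2 hi)
      have hmem : β - Finsupp.single i 1 ∈ lead m I := by
        by_contra hn
        exact hb (Finset.mem_filter.2 ⟨Finset.mem_insert_of_mem (Finset.mem_image.2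
          ⟨(⟨_, hn⟩, i), Finset.mem_univ _, tsub_add_cancel_of_le hle⟩), hβ⟩)
      have hlt : β - Finsupp.single i 1 < β := lt_of_le_of_ne tsub_le_self fun he => by
        have := DFunLike.congr_fun he i
        rw [Finsupp.tsub_apply, Finsupp.single_eq_same] at this
        have : β i ≠ 0 := hi
        omega
      obtain ⟨b, hb', hb''⟩ := ih _ hlt hmem
      exact ⟨b, hb', hb''.trans hlt.le⟩
  let P := ↥B × {δ : σ →₀ ℕ // δ ∉ lead m I}
  let T : σ →₀ ℕ := ∑ b ∈ B, b
  let ω : P → m.syn := fun p => m.toSyn (p.2.1 + (T - p.1.1))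
  have hω : ∀ p : P, ω p + m.toSyn p.1.1 = m.toSyn p.2.1 + m.toSyn T := fun p => by
    rw [← map_add, ← map_add, add_assoc, tsub_add_cancel_of_le (Finset.single_le_sum (fun _ _ => zero_le) p.1.2)]
  let L : Tgt I →ₗ[k] (P → k) :=
    LinearMap.pi fun p => ((lcoeff k p.2.1).comp (nf m I)).comp
      ({ toFun := fun φ => φ (mf m I p.1.1), map_add' := fun _ _ => rfl, map_smul' := fun _ _ => rfl } :
        Tgt I →ₗ[k] MvPolynomial σ k ⧸ I)
  have hLv : ∀ (φ : Tgt I) (p : P), L φ p = coeff p.2.1 (nf m I (φ (mf m I p.1.1))) := fun φ p => rfl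
  have hmem : ∀ x : MvPolynomial σ k ⧸ I, ∀ δ ∈ (nf m I x).support, δ ∉ lead m I :=
    fun x δ hδ => ((stdEquiv m I).symm x).2 hδ
  have hL : Function.Injective L := by
    refine (injective_iff_map_eq_zero L).2 fun φ hφ => eq_zero_of_gens hB hgen fun b hb => ?_
    rw [← mk_nf (m := m) (φ (mf m I b))]
    suffices nf m I (φ (mf m I b)) = 0 by rw [this, map_zero]
    by_contra hne
    obtain ⟨δ, hδ⟩ := MvPolynomial.support_nonempty.2 hne
    exact MvPolynomial.mem_support_iff.1 hδ
      ((hLv φ (⟨b, hb⟩, ⟨δ, hmem _ δ hδ⟩)).symm.trans (congrFun hφ _))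
  let κ : P → (σ → ℤ) := fun p => zv p.2.1 - zv p.1.1
  have hκ : ∀ p q : P, ω p = ω q ↔ κ p = κ q := by
    intro p q
    have hp := hω p; have hq := hω q
    constructor
    · intro h
      have : p.2.1 + q.1.1 = q.2.1 + p.1.1 := by
        apply m.toSyn.injective
        refine add_right_cancel (b := m.toSyn T + ω q) ?_
        rw [map_add, map_add]
        calc _ = (m.toSyn p.2.1 + m.toSyn T) + (ω q + m.toSyn q.1.1) := by abel
          _ = (ω p + m.toSyn p.1.1) + (m.toSyn q.2.1 + m.toSyn T) := by rw [← hp, hq]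
          _ = _ := by rw [h]; abel
      funext l
      have := DFunLike.congr_fun this l
      simp only [κ, zv, Pi.sub_apply, Finsupp.add_apply] at this ⊢
      omega
    · intro h
      have : p.2.1 + q.1.1 = q.2.1 + p.1.1 := zv_inj (funext fun l => by
        have := congrFun h l
        simp only [κ, zv, Pi.sub_apply, Finsupp.add_apply, Nat.cast_add] at this ⊢
        omega)
      refine add_right_cancel (b := m.toSyn p.1.1 + m.toSyn q.1.1) ?_
      calc _ = (ω p + m.toSyn p.1.1) + m.toSyn q.1.1 := by abel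
        _ = m.toSyn (p.2.1 + q.1.1) + m.toSyn T := by rw [hp, map_add]; abel
        _ = (ω q + m.toSyn q.1.1) + m.toSyn p.1.1 := by rw [this, hq, map_add]; abel
        _ = _ := by abel
  let rep : m.syn → (σ → ℤ) := fun a => if h : ∃ p, ω p = a then κ h.choose else 0
  have hrep : ∀ p, rep (ω p) = κ p := fun p => by
    have h : ∃ q, ω q = ω p := ⟨p, rfl⟩
    simp only [rep, dif_pos h]
    exact (hκ _ _).1 h.choose_spec
  have key : Module.finrank k (LinearMap.range L) ≤
      ∑ a ∈ Finset.univ.image ω, Module.finrank k ↥(tPiece (init m I) (rep a)) := by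
    refine finrank_le_sum_lead ω _ _ fun a ha => ?_
    obtain ⟨p₀, -, rfl⟩ := Finset.mem_image.1 ha
    rw [hrep]
    let Ψ : ↥(tPiece (init m I) (κ p₀)) →ₗ[k] ({p // ω p = ω p₀} → k) :=
      LinearMap.pi fun p => (cq isMonomial_init p.1.2.1).comp
        (({ toFun := fun ψ => ψ (mon (show (p.1.1.1 : σ →₀ ℕ) ∈ exps (init m I) by rw [exps_init]; exact hB p.1.1.2)), map_add' := fun _ _ => rfl,
            map_smul' := fun _ _ => rfl } : Tgt (init m I) →ₗ[k] MvPolynomial σ k ⧸ init m I).comp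
          (tPiece (init m I) (κ p₀)).subtype)
    refine ⟨LinearMap.range Ψ, Ψ.finrank_range_le, ?_⟩
    rintro v ⟨φ, rfl⟩ hv
    have hbd : Bd (m := m) φ p₀.1.1 p₀.2.1 := by
      refine bd_of_gens hB hgen fun b hb δ hδ => ?_
      have hle : ω (⟨b, hb⟩, ⟨δ, hmem _ δ hδ⟩) ≤ ω p₀ := by
        by_contra hlt
        exact MvPolynomial.mem_support_iff.1 hδ
          ((hLv φ (⟨b, hb⟩, ⟨δ, hmem _ δ hδ⟩)).symm.trans (hv _ (not_le.1 hlt)))
      have e := hω (⟨b, hb⟩, ⟨δ, hmem _ δ hδ⟩)
      have e0 := hω p₀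
      rw [map_add, map_add]
      refine le_of_add_le_add_right (a := m.toSyn T) ?_
      calc _ = (m.toSyn δ + m.toSyn T) + m.toSyn p₀.1.1 := by abel
        _ ≤ (ω p₀ + m.toSyn b) + m.toSyn p₀.1.1 := add_le_add (e ▸ add_le_add hle le_rfl) le_rfl
        _ = (ω p₀ + m.toSyn p₀.1.1) + m.toSyn b := by abel
        _ = _ := by rw [e0]; abel
    obtain ⟨ψ, hψ, hψv⟩ := exists_symbol hbd
    refine ⟨⟨ψ, hψ⟩, funext fun p => ?_⟩
    rw [hLv]
    exact hψv _ (hB p.1.1.2) _ _ p.1.2.2 (by
      have := ((hκ _ _).1 p.2 : κ p.1 = κ p₀)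
      show zv p.1.2.1 = zv p.1.1.1 + κ p₀
      rw [← this]; simp [κ])
  rw [LinearMap.finrank_range_of_inj hL] at key
  refine key.trans ?_
  have hinj : Set.InjOn rep (Finset.univ.image ω : Finset m.syn) := by
    intro a ha b hb hab
    obtain ⟨p, -, rfl⟩ := Finset.mem_image.1 ha
    obtain ⟨q, -, rfl⟩ := Finset.mem_image.1 hb
    rw [hrep, hrep] at hab
    exact (hκ p q).2 hab
  rw [← Finset.sum_image (f := fun α => Module.finrank k ↥(tPiece (init m I) α)) hinj,
    ← finrank_finset_sup isMonomial_init]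
  exact Submodule.finrank_le _

end Groth.Agent.H27Hilb0.Degen
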