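/-
Exponent vectors on `Fin (n + 1)`.
-/
import Groth.Agent.H25Hilb.Pow

set_option autoImplicit false

open MvPolynomial W4c1hilbpn

namespace Groth.Agent.H27Hilb0

open scoped Classical

variable {n : ℕ}

/-- The exponent of the variable with index `a`. -/
noncomputable abbrev e (a : Fin (n + 1)) : Fin (n + 1) →₀ ℕ := Finsupp.single a 1

theorem pair_le (a b : Fin (n + 1)) (δ : Fin (n + 1) →₀ ℕ) :
    e a + e b ≤ δ ↔ (a = b ∧ 2 ≤ δ a) ∨ (a ≠ b ∧ 1 ≤ δ a ∧ 1 ≤ δ b) := by
  rcases eq_or_ne a b with rfl | h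
  · rw [← Finsupp.single_add, Finsupp.single_le_iff]; simp
  · constructor
    · intro hle
      have h1 := hle a
      have h2 := hle b
      simp [Finsupp.single_apply, h, h.symm] at h1 h2
      exact Or.inr ⟨h, h1, h2⟩
    · rintro (⟨rfl, -⟩ | ⟨-, h1, h2⟩)
      · exact absurd rfl h
      intro t
      simp only [Finsupp.add_apply, Finsupp.single_apply]
      split_ifs with ha hb <;> subst_vars <;> first | exact absurd rfl h | omega

theorem eq_two_support {δ : Fin (n + 1) →₀ ℕ} (a b : Fin (n + 1)) (hab : a ≠ b) (h : ∀ t, t ≠ a → t ≠ b → δ t = 0) :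
    δ = Finsupp.single a (δ a) + Finsupp.single b (δ b) := by
  refine Finsupp.ext fun t => ?_
  simp only [Finsupp.add_apply, Finsupp.single_apply]
  split_ifs with h1 h2 h2 <;> subst_vars
  · exact absurd rfl hab
  · omega
  · omega
  · simp [h t (Ne.symm h1) (Ne.symm h2)]

theorem degree_two_support {δ : Fin (n + 1) →₀ ℕ} (a b : Fin (n + 1)) (hab : a ≠ b)
    (h : ∀ t, t ≠ a → t ≠ b → δ t = 0) : Finsupp.degree δ = δ a + δ b := by
  conv_lhs => rw [eq_two_support a b hab h]
  rw [map_add, Finsupp.degree_single, Finsupp.degree_single]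

/-- An exponent vector in the variables of positive index. -/
noncomputable def lift (γ : Fin n →₀ ℕ) : Fin (n + 1) →₀ ℕ := Finsupp.equivFunOnFinite.symm (Fin.cons 0 γ)

@[simp] theorem lift_zero (γ : Fin n →₀ ℕ) : lift γ 0 = 0 := rfl

@[simp] theorem lift_succ (γ : Fin n →₀ ℕ) (t : Fin n) : lift γ t.succ = γ t := by simp [lift]

theorem degree_lift (γ : Fin n →₀ ℕ) : Finsupp.degree (lift γ) = Finsupp.degree γ := by
  rw [Finsupp.degree_eq_sum, Finsupp.degree_eq_sum, Fin.sum_univ_succ]; simp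

theorem lift_injective : Function.Injective (lift (n := n)) := fun γ γ' h => Finsupp.ext fun t => by
  rw [← lift_succ γ t, h, lift_succ]

theorem exists_lift {δ : Fin (n + 1) →₀ ℕ} (h : δ 0 = 0) : ∃ γ, lift γ = δ :=
  ⟨Finsupp.equivFunOnFinite.symm fun t => δ t.succ, Finsupp.ext fun t => by
    cases t using Fin.cases <;> simp [h]⟩

theorem finite_degree (q : ℕ) : {δ : Fin (n + 1) →₀ ℕ | δ 0 = 0 ∧ Finsupp.degree δ = q}.Finite :=
  (Set.finite_Iic (Finsupp.equivFunOnFinite.symm fun _ : Fin (n + 1) => q)).subset fun δ hδ t =>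
    (Finsupp.le_degree t δ).trans hδ.2.le

/-- The monomials of degree `q` without the first variable. -/
noncomputable def noZero (n q : ℕ) : Finset (Fin (n + 1) →₀ ℕ) := (finite_degree (n := n) q).toFinset

theorem mem_noZero {q : ℕ} {δ : Fin (n + 1) →₀ ℕ} : δ ∈ noZero n q ↔ δ 0 = 0 ∧ Finsupp.degree δ = q := by
  simp [noZero]

theorem card_noZero (q : ℕ) : (noZero n q).card = n.multichoose q := by
  have h := H25Hilb.card_degree_eq (σ := Fin n) q
  rw [Fintype.card_fin] at h
  rw [← h, ← Nat.card_eq_finsetCard]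
  refine (Nat.card_congr (Equiv.ofBijective
    (fun γ : {γ : Fin n →₀ ℕ // Finsupp.degree γ = q} =>
      (⟨lift γ.1, mem_noZero.2 ⟨lift_zero _, by rw [degree_lift, γ.2]⟩⟩ : noZero n q)) ⟨?_, ?_⟩)).symm
  · exact fun a b hab => Subtype.ext (lift_injective (congrArg Subtype.val hab))
  · rintro ⟨δ, hδ⟩
    obtain ⟨γ, rfl⟩ := exists_lift (mem_noZero.1 hδ).1
    exact ⟨⟨γ, by rw [← degree_lift]; exact (mem_noZero.1 hδ).2⟩, rfl⟩

theorem exists_eq_e {δ : Fin (n + 1) →₀ ℕ} (h : Finsupp.degree δ = 1) : ∃ t, δ = e t := by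
  have hne : δ ≠ 0 := fun h0 => by simp [h0] at h
  obtain ⟨t, ht⟩ := Finsupp.support_nonempty_iff.2 hne
  have hle : e t ≤ δ := Finsupp.single_le_iff.2 (Nat.one_le_iff_ne_zero.2 (Finsupp.mem_support_iff.1 ht))
  refine ⟨t, ?_⟩
  have h1 := congrArg Finsupp.degree (tsub_add_cancel_of_le hle)
  rw [map_add, Finsupp.degree_single, h] at h1
  have h2 : δ - e t = 0 := (Finsupp.degree_eq_zero_iff _).1 (by omega)
  rw [← tsub_add_cancel_of_le hle, h2, zero_add]

/-- A vector of degree two containing `a`. -/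
theorem exists_eq_pair {δ : Fin (n + 1) →₀ ℕ} (h : Finsupp.degree δ = 2) {a : Fin (n + 1)} (ha : 1 ≤ δ a) :
    ∃ t, δ = e a + e t := by
  have hle : e a ≤ δ := Finsupp.single_le_iff.2 ha
  have h1 := congrArg Finsupp.degree (tsub_add_cancel_of_le hle)
  rw [map_add, Finsupp.degree_single, h] at h1
  obtain ⟨t, ht⟩ := exists_eq_e (δ := δ - e a) (by omega)
  exact ⟨t, by rw [← ht, add_tsub_cancel_of_le hle]⟩

theorem single_one_injective {a b : Fin (n + 1)} (h : e a = e b) : a = b :=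
  (Finsupp.single_left_inj one_ne_zero).1 h

end Groth.Agent.H27Hilb0
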