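import Mathlib

/-! # `dim Hom(I, (MvPolynomial (Fin 2) k) ⧸ J) ≤ colength I + colength J` for ideals of `(MvPolynomial (Fin 2) k) = k[y,z]` -/

open MvPolynomial

namespace Groth.Agent.H27Hilb0

variable {k : Type*} [Field k]


variable {M : Type*} [AddCommGroup M] [Module (MvPolynomial (Fin 2) k) M] [Module k M] [IsScalarTower k (MvPolynomial (Fin 2) k) M]

theorem finite_hom [Module.Finite k M] (I : Ideal (MvPolynomial (Fin 2) k)) : Module.Finite k (↥I →ₗ[(MvPolynomial (Fin 2) k)] M) := by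
  obtain ⟨s, hs⟩ := (IsNoetherian.noetherian (⊤ : Submodule (MvPolynomial (Fin 2) k) ↥I))
  let L : (↥I →ₗ[(MvPolynomial (Fin 2) k)] M) →ₗ[k] (↥(s : Set ↥I) → M) :=
    { toFun := fun φ p => φ p.1, map_add' := fun _ _ => rfl, map_smul' := fun _ _ => rfl }
  exact Module.Finite.of_injective L fun φ ψ h => LinearMap.ext_on hs fun x hx => congrFun h ⟨x, hx⟩

theorem exists_eq_mul_add {r : (MvPolynomial (Fin 2) k)} (h : constantCoeff r = 0) : ∃ r₁ r₂, r = r₁ * X 0 + r₂ * X 1 := by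
  have : r ∈ Ideal.span {(X 0 : (MvPolynomial (Fin 2) k)), X 1} := by
    have hs : ({(X 0 : (MvPolynomial (Fin 2) k)), X 1} : Set (MvPolynomial (Fin 2) k)) = MvPolynomial.X '' (Set.univ : Set (Fin 2)) := by
      ext x; simp [Fin.exists_fin_two, eq_comm]
    rw [hs, mem_ideal_span_X_image]
    intro m hm
    by_contra hh
    push Not at hh
    have hm0 : m = 0 := Finsupp.ext fun i => hh i (Set.mem_univ i)
    subst hm0
    exact MvPolynomial.mem_support_iff.1 hm h
  obtain ⟨a, b, hab⟩ := Ideal.mem_span_pair.1 this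
  exact ⟨a, b, hab.symm⟩

/-- Extending a homomorphism across a socle step. -/
theorem exists_extend {I : Ideal (MvPolynomial (Fin 2) k)} {u : (MvPolynomial (Fin 2) k)} (hu : u ∉ I) (hy : X 0 * u ∈ I) (hz : X 1 * u ∈ I)
    (φ : ↥I →ₗ[(MvPolynomial (Fin 2) k)] M) (m : M) (my : φ ⟨_, hy⟩ = (X 0 : (MvPolynomial (Fin 2) k)) • m) (mz : φ ⟨_, hz⟩ = (X 1 : (MvPolynomial (Fin 2) k)) • m) :
    ∃ f : ↥(I ⊔ Ideal.span {u}) →ₗ[(MvPolynomial (Fin 2) k)] M,
      f.comp (Submodule.inclusion le_sup_left) = φ ∧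
        f ⟨u, Submodule.mem_sup_right (Ideal.subset_span rfl)⟩ = m := by
  let ι : (↥I × (MvPolynomial (Fin 2) k)) →ₗ[(MvPolynomial (Fin 2) k)] ↥(I ⊔ Ideal.span {u}) :=
    (Submodule.inclusion le_sup_left).coprod
      (LinearMap.toSpanSingleton (MvPolynomial (Fin 2) k) _ ⟨u, Submodule.mem_sup_right (Ideal.subset_span rfl)⟩)
  have hι : Function.Surjective ι := fun x => by
    obtain ⟨i, hi, v, hv, hiv⟩ := Submodule.mem_sup.1 x.2
    obtain ⟨r, rfl⟩ := Ideal.mem_span_singleton'.1 hv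
    exact ⟨(⟨i, hi⟩, r), Subtype.ext (by simpa [ι] using hiv)⟩
  let F : (↥I × (MvPolynomial (Fin 2) k)) →ₗ[(MvPolynomial (Fin 2) k)] M := φ.coprod (LinearMap.toSpanSingleton (MvPolynomial (Fin 2) k) _ m)
  have hle : LinearMap.ker ι ≤ LinearMap.ker F := by
    rintro ⟨i, r⟩ hir
    have h0 : (i : (MvPolynomial (Fin 2) k)) + r * u = 0 := by simpa [ι] using congrArg Subtype.val (LinearMap.mem_ker.1 hir)
    have hru : r * u ∈ I := by
      have : r * u = -(i : (MvPolynomial (Fin 2) k)) := eq_neg_of_add_eq_zero_right h0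
      rw [this]; exact I.neg_mem i.2
    have hc : constantCoeff r = 0 := by
      by_contra hne
      have h0' : constantCoeff (r - C (constantCoeff r)) = 0 := by simp
      obtain ⟨r₁, r₂, h12⟩ := exists_eq_mul_add h0'
      have h3 : C (constantCoeff r) * u ∈ I := by
        have : C (constantCoeff r) * u = r * u - (r₁ * (X 0 * u) + r₂ * (X 1 * u)) := by
          linear_combination (-u) * h12
        rw [this]; exact I.sub_mem hru (I.add_mem (I.mul_mem_left _ hy) (I.mul_mem_left _ hz))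
      have h4 := I.mul_mem_left (C (constantCoeff r)⁻¹) h3
      rw [← mul_assoc, ← C_mul, inv_mul_cancel₀ hne, C_1, one_mul] at h4
      exact hu h4
    obtain ⟨r₁, r₂, rfl⟩ := exists_eq_mul_add hc
    have hi : i = -(r₁ • (⟨_, hy⟩ : ↥I) + r₂ • (⟨_, hz⟩ : ↥I)) := Subtype.ext (by
      simp only [Submodule.coe_neg, Submodule.coe_add, Submodule.coe_smul, smul_eq_mul]
      linear_combination h0)
    rw [LinearMap.mem_ker, hi]
    simp only [F, LinearMap.coprod_apply, LinearMap.toSpanSingleton_apply, map_neg, map_add, map_smul, my, mz,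
      add_smul, mul_smul]
    abel
  refine ⟨((LinearMap.ker ι).liftQ F hle).comp (LinearMap.quotKerEquivOfSurjective ι hι).symm.toLinearMap, ?_, ?_⟩
  · refine LinearMap.ext fun i => ?_
    have e : (LinearMap.quotKerEquivOfSurjective ι hι).symm (Submodule.inclusion le_sup_left i) =
        Submodule.Quotient.mk (i, (0 : (MvPolynomial (Fin 2) k))) := by
      rw [LinearEquiv.symm_apply_eq, LinearMap.quotKerEquivOfSurjective_apply_mk]; simp [ι]
    simp only [LinearMap.comp_apply, LinearEquiv.coe_coe, e, Submodule.liftQ_apply]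
    simp [F]
  · have e : (LinearMap.quotKerEquivOfSurjective ι hι).symm
        ⟨u, Submodule.mem_sup_right (Ideal.subset_span rfl)⟩ = Submodule.Quotient.mk ((0 : ↥I), (1 : (MvPolynomial (Fin 2) k))) := by
      rw [LinearEquiv.symm_apply_eq, LinearMap.quotKerEquivOfSurjective_apply_mk]; simp [ι]
    simp only [LinearMap.comp_apply, LinearEquiv.coe_coe, e, Submodule.liftQ_apply]
    simp [F]

/-- One socle step costs at most one dimension. -/
theorem hom_step [Module.Finite k M] (hM : ∃ g : M, ∀ x : M, ∃ (c : k) (a b : M), x = c • g + ((X 0 : (MvPolynomial (Fin 2) k)) • a + (X 1 : (MvPolynomial (Fin 2) k)) • b))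
    {I : Ideal (MvPolynomial (Fin 2) k)} {u : (MvPolynomial (Fin 2) k)} (hu : u ∉ I) (hy : X 0 * u ∈ I) (hz : X 1 * u ∈ I) :
    Module.finrank k (↥I →ₗ[(MvPolynomial (Fin 2) k)] M) ≤ Module.finrank k (↥(I ⊔ Ideal.span {u}) →ₗ[(MvPolynomial (Fin 2) k)] M) + 1 := by
  have := finite_hom (M := M) I
  have := finite_hom (M := M) (I ⊔ Ideal.span {u})
  let res : (↥(I ⊔ Ideal.span {u}) →ₗ[(MvPolynomial (Fin 2) k)] M) →ₗ[k] (↥I →ₗ[(MvPolynomial (Fin 2) k)] M) :=
    { toFun := fun f => f.comp (Submodule.inclusion le_sup_left), map_add' := fun _ _ => rfl, map_smul' := fun _ _ => rfl }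
  let ψ : (↥I →ₗ[(MvPolynomial (Fin 2) k)] M) →ₗ[k] M × M :=
    { toFun := fun φ => (φ ⟨_, hy⟩, φ ⟨_, hz⟩), map_add' := fun _ _ => rfl, map_smul' := fun _ _ => rfl }
  let my : M →ₗ[k] M := ((X 0 : (MvPolynomial (Fin 2) k)) • (LinearMap.id : M →ₗ[(MvPolynomial (Fin 2) k)] M)).restrictScalars k
  let mz : M →ₗ[k] M := ((X 1 : (MvPolynomial (Fin 2) k)) • (LinearMap.id : M →ₗ[(MvPolynomial (Fin 2) k)] M)).restrictScalars k
  let β : M →ₗ[k] M × M := my.prod mz
  let γ : M × M →ₗ[k] M := mz.comp (LinearMap.fst k M M) - my.comp (LinearMap.snd k M M)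
  have hBZ : LinearMap.range β ≤ LinearMap.ker γ := by
    rintro _ ⟨m, rfl⟩
    simp [γ, β, my, mz, smul_smul, mul_comm (X 1 : (MvPolynomial (Fin 2) k))]
  let q := (LinearMap.range β).mkQ.comp ψ
  -- the image of `q` lands in the image of the kernel of `γ`
  have hq : LinearMap.range q ≤ (LinearMap.ker γ).map (LinearMap.range β).mkQ := by
    rintro _ ⟨φ, rfl⟩
    refine ⟨ψ φ, ?_, rfl⟩
    show (X 1 : (MvPolynomial (Fin 2) k)) • φ ⟨_, hy⟩ - (X 0 : (MvPolynomial (Fin 2) k)) • φ ⟨_, hz⟩ = 0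
    rw [sub_eq_zero, ← map_smul, ← map_smul]
    congr 1
    exact Subtype.ext (by simp only [Submodule.coe_smul, smul_eq_mul]; ring)
  have hkq : LinearMap.ker q ≤ LinearMap.range res := by
    intro φ hφ
    obtain ⟨m, hm⟩ : ψ φ ∈ LinearMap.range β := by
      simpa [q, Submodule.Quotient.mk_eq_zero] using LinearMap.mem_ker.1 hφ
    obtain ⟨f, hf, -⟩ := exists_extend hu hy hz φ m (congrArg Prod.fst hm).symm (congrArg Prod.snd hm).symm
    exact ⟨f, hf⟩
  let ev : ↥(LinearMap.ker res) →ₗ[k] M :=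
    { toFun := fun f => f.1 ⟨u, Submodule.mem_sup_right (Ideal.subset_span rfl)⟩, map_add' := fun _ _ => rfl,
      map_smul' := fun _ _ => rfl }
  have hev : LinearMap.ker β ≤ LinearMap.range ev := by
    intro m hm
    obtain ⟨f, hf, hfu⟩ := exists_extend hu hy hz (0 : ↥I →ₗ[(MvPolynomial (Fin 2) k)] M) m
      (congrArg Prod.fst (LinearMap.mem_ker.1 hm)).symm (congrArg Prod.snd (LinearMap.mem_ker.1 hm)).symm
    exact ⟨⟨f, LinearMap.mem_ker.2 hf⟩, hfu⟩
  -- `M = k g + (y, z) M`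
  obtain ⟨g, hg⟩ := hM
  have hcyc : Module.finrank k M ≤ Module.finrank k ↥(LinearMap.range γ) + 1 := by
    have htop : (⊤ : Submodule k M) = Submodule.span k {g} ⊔ LinearMap.range γ := by
      refine le_antisymm (fun x _ => ?_) le_top
      obtain ⟨c, a, b, rfl⟩ := hg x
      exact Submodule.add_mem_sup (Submodule.smul_mem _ _ (Submodule.mem_span_singleton_self g))
        ⟨(b, -a), by simp [γ, my, mz, add_comm]⟩
    have h1 := Submodule.finrank_add_le_finrank_add_finrank (Submodule.span k {g}) (LinearMap.range γ)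
    have h2 : Module.finrank k ↥(Submodule.span k {g}) ≤ 1 := (finrank_span_le_card _).trans (by simp)
    rw [← htop, finrank_top] at h1
    omega
  have e1 := LinearMap.finrank_range_add_finrank_ker q
  have e2 := LinearMap.finrank_range_add_finrank_ker res
  have e3 := LinearMap.finrank_range_add_finrank_ker β
  have e4 := LinearMap.finrank_range_add_finrank_ker γ
  rw [Module.finrank_prod] at e4
  have e5 : Module.finrank k ↥((LinearMap.ker γ).map (LinearMap.range β).mkQ) + Module.finrank k ↥(LinearMap.range β) =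
      Module.finrank k ↥(LinearMap.ker γ) := by
    have h := LinearMap.finrank_range_add_finrank_ker ((LinearMap.range β).mkQ.domRestrict (LinearMap.ker γ))
    rw [LinearMap.range_domRestrict, LinearMap.ker_domRestrict, Submodule.ker_mkQ] at h
    rw [(Submodule.comapSubtypeEquivOfLe hBZ).finrank_eq] at h
    exact h
  have i1 := Submodule.finrank_mono hq
  have i2 := Submodule.finrank_mono hkq
  have i3 := (Submodule.finrank_mono hev).trans ev.finrank_range_le
  omega

theorem exists_socle {I : Ideal (MvPolynomial (Fin 2) k)} (h1 : (1 : (MvPolynomial (Fin 2) k)) ∉ I) (hy : ∃ a, (X 0 : (MvPolynomial (Fin 2) k)) ^ a ∈ I) (hz : ∃ b, (X 1 : (MvPolynomial (Fin 2) k)) ^ b ∈ I) :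
    ∃ u, u ∉ I ∧ X 0 * u ∈ I ∧ X 1 * u ∈ I := by
  classical
  have ha1 : Nat.find hy ≠ 0 := fun h => h1 (by simpa [h] using Nat.find_spec hy)
  obtain ⟨a, ha⟩ := Nat.exists_eq_succ_of_ne_zero ha1
  have haI : (X 0 : (MvPolynomial (Fin 2) k)) ^ a ∉ I := Nat.find_min hy (by omega)
  have hb : ∃ b, (X 0 : (MvPolynomial (Fin 2) k)) ^ a * X 1 ^ b ∈ I := hz.imp fun b hb => I.mul_mem_left _ hb
  have hb1 : Nat.find hb ≠ 0 := fun h => haI (by simpa [h] using Nat.find_spec hb)
  obtain ⟨b, hb'⟩ := Nat.exists_eq_succ_of_ne_zero hb1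
  refine ⟨X 0 ^ a * X 1 ^ b, Nat.find_min hb (by omega), ?_, ?_⟩
  · have := I.mul_mem_right (X 1 ^ b) (ha ▸ Nat.find_spec hy)
    rwa [← mul_assoc, ← pow_succ']
  · have := hb' ▸ Nat.find_spec hb
    rwa [mul_left_comm, ← pow_succ']

/-- `dim Hom(I, M) ≤ dim M + colength I` for a cyclic finite-dimensional `k[y,z]`-module `M`. -/
theorem finrank_hom_le [Module.Finite k M] (hM : ∃ g : M, ∀ x : M, ∃ (c : k) (a b : M), x = c • g + ((X 0 : (MvPolynomial (Fin 2) k)) • a + (X 1 : (MvPolynomial (Fin 2) k)) • b))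
    (I : Ideal (MvPolynomial (Fin 2) k)) [Module.Finite k ((MvPolynomial (Fin 2) k) ⧸ I)] (hy : ∃ a, (X 0 : (MvPolynomial (Fin 2) k)) ^ a ∈ I) (hz : ∃ b, (X 1 : (MvPolynomial (Fin 2) k)) ^ b ∈ I) :
    Module.finrank k (↥I →ₗ[(MvPolynomial (Fin 2) k)] M) ≤ Module.finrank k M + Module.finrank k ((MvPolynomial (Fin 2) k) ⧸ I) := by
  obtain ⟨n, hn⟩ : ∃ n, Module.finrank k ((MvPolynomial (Fin 2) k) ⧸ I) = n := ⟨_, rfl⟩
  induction n using Nat.strong_induction_on generalizing I with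
  | _ n ih =>
  by_cases h1 : (1 : (MvPolynomial (Fin 2) k)) ∈ I
  · let L : (↥I →ₗ[(MvPolynomial (Fin 2) k)] M) →ₗ[k] M :=
      { toFun := fun φ => φ ⟨1, h1⟩, map_add' := fun _ _ => rfl, map_smul' := fun _ _ => rfl }
    refine (LinearMap.finrank_le_finrank_of_injective (f := L) fun φ ψ h => LinearMap.ext fun x => ?_).trans
      (Nat.le_add_right _ _)
    have hx : x = (x : (MvPolynomial (Fin 2) k)) • (⟨1, h1⟩ : ↥I) := Subtype.ext (by simp)
    rw [hx, map_smul, map_smul]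
    exact congrArg _ h
  · obtain ⟨u, hu, huy, huz⟩ := exists_socle h1 hy hz
    have hle : I ≤ I ⊔ Ideal.span {u} := le_sup_left
    let π : ((MvPolynomial (Fin 2) k) ⧸ I) →ₗ[k] (MvPolynomial (Fin 2) k) ⧸ (I ⊔ Ideal.span {u}) := (Ideal.Quotient.factorₐ k hle).toLinearMap
    have hπ : Function.Surjective π := Ideal.Quotient.factor_surjective hle
    haveI : Module.Finite k ((MvPolynomial (Fin 2) k) ⧸ (I ⊔ Ideal.span {u})) := Module.Finite.of_surjective π hπ
    have hlt : Module.finrank k ((MvPolynomial (Fin 2) k) ⧸ (I ⊔ Ideal.span {u})) + 1 ≤ Module.finrank k ((MvPolynomial (Fin 2) k) ⧸ I) := by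
      have h := LinearMap.finrank_range_add_finrank_ker π
      rw [LinearMap.range_eq_top.2 hπ, finrank_top] at h
      have hk : 1 ≤ Module.finrank k ↥(LinearMap.ker π) := by
        refine Submodule.one_le_finrank_iff.2 (Submodule.ne_bot_iff _ |>.2 ⟨Ideal.Quotient.mk I u, ?_, ?_⟩)
        · exact LinearMap.mem_ker.2 (Ideal.Quotient.eq_zero_iff_mem.2 (Submodule.mem_sup_right (Ideal.subset_span rfl)))
        · exact fun h => hu (Ideal.Quotient.eq_zero_iff_mem.1 h)
      omega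
    have h' := ih _ (by omega) (I ⊔ Ideal.span {u}) (hy.imp fun _ h => hle h) (hz.imp fun _ h => hle h) rfl
    have := hom_step hM hu huy huz
    omega

theorem cyclic_quot (J : Ideal (MvPolynomial (Fin 2) k)) :
    ∃ g : (MvPolynomial (Fin 2) k) ⧸ J, ∀ x, ∃ (c : k) (a b : (MvPolynomial (Fin 2) k) ⧸ J), x = c • g + ((X 0 : (MvPolynomial (Fin 2) k)) • a + (X 1 : (MvPolynomial (Fin 2) k)) • b) := by
  refine ⟨1, fun x => ?_⟩
  obtain ⟨p, rfl⟩ := Ideal.Quotient.mk_surjective x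
  obtain ⟨a, b, hab⟩ := exists_eq_mul_add (show constantCoeff (p - C (constantCoeff p)) = 0 by simp)
  refine ⟨constantCoeff p, Ideal.Quotient.mk J a, Ideal.Quotient.mk J b, ?_⟩
  have e : p = constantCoeff p • (1 : (MvPolynomial (Fin 2) k)) + ((X 0 : (MvPolynomial (Fin 2) k)) * a + (X 1 : (MvPolynomial (Fin 2) k)) * b) := by
    rw [MvPolynomial.smul_eq_C_mul]; linear_combination hab
  conv_lhs => rw [e]
  rw [map_add, map_add]
  rfl

end Groth.Agent.H27Hilb0
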