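/-
The ideal `x₀·(x₀, …, xₙ₋₁) + (x₁^q)`.
-/
import Groth.Agent.H27Hilb0.Core
import Groth.Agent.H27Hilb0.Fin

set_option autoImplicit false

open MvPolynomial W4c1hilbpn

namespace Groth.Agent.H27Hilb0.PowPoint

open H25Hilb
open scoped Classical

variable {k : Type*} [Field k] {n q : ℕ}

/-- The generators. -/
noncomputable def G (n q : ℕ) : Fin n ⊕ Unit → (Fin (n + 1) →₀ ℕ) :=
  Sum.elim (fun i => e 0 + e i.castSucc) fun _ => Finsupp.single (Fin.ofNat (n + 1) 1) q

theorem finrank_deg0_powPoint (hcase : (n = 3 ∧ 4 ≤ q) ∨ (4 ≤ n ∧ 2 ≤ q))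
    {I : Ideal (MvPolynomial (Fin (n + 1)) k)} (hG : IsGen I (G n q)) :
    Module.finrank k (deg0 I) = 2 * n - 1 + Nat.choose (n + q - 1) (n - 1) := by
  have hn : 3 ≤ n := by omega
  have hq : 2 ≤ q := by omega
  set one : Fin (n + 1) := Fin.ofNat (n + 1) 1 with hone
  set lst : Fin (n + 1) := Fin.last n with hlst
  have vone : one.val = 1 := by simp [hone, Fin.ofNat]; omega
  have vlst : lst.val = n := by simp [hlst]
  set two : Fin n := ⟨2, by omega⟩ with htwo
  set two' : Fin (n + 1) := two.castSucc with htwo'
  have vtwo : two'.val = 2 := rfl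
  have h10 : one ≠ 0 := fun h => by simp [h] at vone
  have hl0 : lst ≠ 0 := fun h => by simp [h] at vlst; omega
  have hl1 : lst ≠ one := fun h => by rw [h, vone] at vlst; omega
  have h20 : two' ≠ 0 := fun h => by simp [h] at vtwo
  have h21 : two' ≠ one := fun h => by rw [h, vone] at vtwo; omega
  have h2l : two' ≠ lst := fun h => by rw [h, vlst] at vtwo; omega
  have gA : ∀ i : Fin n, G n q (Sum.inl i) = e 0 + e i.castSucc := fun _ => rfl
  have gX : ∀ x, G n q (Sum.inr x) = Finsupp.single one q := fun _ => rfl
  -- the standard monomials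
  have hmem : ∀ δ, δ ∈ exps I ↔ (q ≤ δ one ∨ 2 ≤ δ 0 ∨ (1 ≤ δ 0 ∧ ∃ t : Fin (n + 1), t ≠ 0 ∧ t.val < n ∧ 1 ≤ δ t)) := by
    intro δ
    rw [hG.iff]
    constructor
    · rintro ⟨i | x, h⟩
      · rw [gA, pair_le] at h
        rcases h with ⟨-, h⟩ | ⟨hne, h1, h2⟩
        · exact Or.inr (Or.inl h)
        · exact Or.inr (Or.inr ⟨h1, _, hne.symm, i.2, h2⟩)
      · rw [gX, Finsupp.single_le_iff] at h
        exact Or.inl h
    · rintro (h | h | ⟨h0, t, ht0, htn, h1⟩)
      · exact ⟨Sum.inr (), by rw [gX, Finsupp.single_le_iff]; exact h⟩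
      · refine ⟨Sum.inl ⟨0, by omega⟩, ?_⟩
        rw [gA, pair_le]
        exact Or.inl ⟨Fin.ext rfl, h⟩
      · refine ⟨Sum.inl ⟨t.val, htn⟩, ?_⟩
        rw [gA, pair_le]
        exact Or.inr ⟨fun h => ht0 (by rw [h]; rfl), h0, h1⟩
  have hstd : ∀ δ, δ 0 = 0 → δ one < q → δ ∉ exps I := fun δ h0 h1 h => by
    rcases (hmem δ).1 h with h | h | ⟨h, -⟩ <;> omega
  have hx0 : ∀ δ, δ ∉ exps I → δ 0 ≠ 0 → δ 0 = 1 ∧ δ = e 0 + Finsupp.single lst (δ lst) := by
    intro δ hδ h0
    have h1 : δ 0 = 1 := by
      by_contra h
      exact hδ ((hmem δ).2 (Or.inr (Or.inl (by omega))))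
    refine ⟨h1, ?_⟩
    conv_lhs => rw [eq_two_support (δ := δ) 0 lst hl0.symm fun t ht0 htl => by
      by_contra h
      refine hδ ((hmem δ).2 (Or.inr (Or.inr ⟨by omega, t, ht0, ?_, Nat.one_le_iff_ne_zero.2 h⟩)))
      have := t.2
      have : t.val ≠ n := fun h' => htl (Fin.ext (by rw [h', vlst]))
      omega, h1]
  -- coordinates on the last generator
  let T : Finset (Fin (n + 1) →₀ ℕ) := insert (e 0 + Finsupp.single lst (q - 1))
    (((noZero n q).erase (Finsupp.single one q)).erase (Finsupp.single lst q))
  have hT : ∀ δ ∈ T, δ ∉ exps I ∧ Finsupp.degree δ = q ∧ δ ≠ Finsupp.single lst q := by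
    intro δ hδ
    simp only [T, Finset.mem_insert, Finset.mem_erase, mem_noZero] at hδ
    rcases hδ with rfl | ⟨h1, h2, h3, h4⟩
    · refine ⟨fun h => ?_, ?_, fun h => ?_⟩
      · rcases (hmem _).1 h with h | h | ⟨-, t, ht0, htn, h⟩
        · simp [Finsupp.single_apply, hl1, h10.symm] at h; omega
        · simp [Finsupp.single_apply, hl0] at h
        · have : lst ≠ t := fun h' => by rw [← h', vlst] at htn; omega
          simp [Finsupp.single_apply, ht0.symm, this] at h
      · rw [map_add, Finsupp.degree_single, Finsupp.degree_single]; omega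
      · have := DFunLike.congr_fun h (0 : Fin (n + 1))
        simp [Finsupp.single_apply, hl0] at this
    · refine ⟨hstd δ h3 ?_, h4, h1⟩
      by_contra hge
      have hle : Finsupp.single one q ≤ δ := Finsupp.single_le_iff.2 (by omega)
      have he := congrArg Finsupp.degree (tsub_add_cancel_of_le hle)
      rw [map_add, Finsupp.degree_single, h4] at he
      refine h2 ?_
      rw [← tsub_add_cancel_of_le hle, (Finsupp.degree_eq_zero_iff _).1 (show Finsupp.degree (δ - Finsupp.single one q) = 0 by omega), zero_add]
  have hT' : ∀ δ, δ ∉ exps I → Finsupp.degree δ = q → δ ≠ Finsupp.single lst q → δ ∈ T := by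
    intro δ hδ hd hne
    simp only [T, Finset.mem_insert, Finset.mem_erase, mem_noZero]
    by_cases h0 : δ 0 = 0
    · refine Or.inr ⟨hne, fun h => hδ ((hmem δ).2 (Or.inl (by rw [h]; simp))), h0, hd⟩
    · obtain ⟨-, he⟩ := hx0 δ hδ h0
      refine Or.inl ?_
      have := congrArg Finsupp.degree he
      rw [map_add, Finsupp.degree_single, Finsupp.degree_single, hd] at this
      rw [he]; congr 2; omega
  let κ : Fin n ⊕ Fin n ⊕ T → (Fin n ⊕ Unit) × (Fin (n + 1) →₀ ℕ) :=
    Sum.elim (fun i => (Sum.inl i, e 0 + e lst))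
      (Sum.elim (fun t => (Sum.inl two, e two' + e t.succ)) fun δ => (Sum.inr (), δ.1))
  have ha : e 0 + e lst ∉ exps I := fun h => by
    rcases (hmem _).1 h with h | h | ⟨-, t, ht0, htn, h⟩
    · simp [Finsupp.single_apply, hl1, h10.symm] at h; omega
    · simp [Finsupp.single_apply, hl0] at h
    · have : lst ≠ t := fun h' => by rw [← h', vlst] at htn; omega
      simp [Finsupp.single_apply, ht0.symm, this] at h
  have hL : ∀ t : Fin n, e two' + e t.succ ∉ exps I := fun t => hstd _
    (by simp [Finsupp.single_apply, h20, Fin.succ_ne_zero])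
    (by simp only [Finsupp.add_apply, Finsupp.single_apply, h21, if_false]; split_ifs <;> omega)
  rw [finrank_deg0 hG κ Set.univ ?_ ?_]
  · -- the count
    simp only [Fintype.card_sum, Fintype.card_fin, Fintype.card_coe]
    have hlq : Finsupp.single lst q ∈ (noZero n q).erase (Finsupp.single one q) := by
      simp only [Finset.mem_erase, mem_noZero]
      refine ⟨fun h => ?_, by simp [hl0.symm], Finsupp.degree_single _ _⟩
      rcases Finsupp.single_eq_single_iff _ _ _ _ |>.1 h with ⟨h, -⟩ | ⟨h, -⟩
      · exact hl1 h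
      · omega
    have h1q : Finsupp.single one q ∈ noZero n q := mem_noZero.2 ⟨by simp [h10.symm], Finsupp.degree_single _ _⟩
    have c1 := Finset.card_erase_add_one hlq
    have c2 := Finset.card_erase_add_one h1q
    rw [Finset.card_insert_of_notMem, card_noZero, Nat.multichoose_eq, ← Nat.choose_symm (show q ≤ n + q - 1 by omega)] at *
    · rw [show n + q - 1 - q = n - 1 by omega] at c2; omega
    · simp only [Finset.mem_erase, mem_noZero]
      rintro ⟨-, -, h, -⟩
      simp [Finsupp.single_apply, hl0] at h
  · -- injectivity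
    intro φ _ hz i δ hδ hd
    rcases i with i | x
    swap
    · rw [gX, Finsupp.degree_single] at hd
      by_cases hne : δ = Finsupp.single lst q
      · subst hne
        refine rel_zero hG φ (u := e 0) (w := Finsupp.single one (q - 1)) (j := Sum.inl ⟨1, by omega⟩) ?_ ?_ ?_
        · have : (⟨1, by omega⟩ : Fin n).castSucc = one := Fin.ext vone.symm
          rw [gX, gA, this]
          refine Finsupp.ext fun t => ?_
          simp only [Finsupp.add_apply, Finsupp.single_apply]
          split_ifs <;> omega
        · intro h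
          rcases (hmem _).1 h with h | h | ⟨-, t, ht0, htn, h⟩
          · simp [Finsupp.single_apply, hl1, h10.symm] at h; omega
          · simp [Finsupp.single_apply, hl0] at h
          · have : lst ≠ t := fun h' => by rw [← h', vlst] at htn; omega
            simp [Finsupp.single_apply, ht0.symm, this] at h
        · intro h
          have := h one
          simp [Finsupp.single_apply, hl1, h10.symm] at this
          omega
      · exact hz (Sum.inr (Sum.inr ⟨δ, hT' δ hδ hd hne⟩))
    · rw [gA, map_add, Finsupp.degree_single, Finsupp.degree_single] at hd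
      by_cases h0 : δ 0 = 0
      swap
      · obtain ⟨-, he⟩ := hx0 δ hδ h0
        have h1 := congrArg Finsupp.degree he
        rw [map_add, Finsupp.degree_single, Finsupp.degree_single, hd] at h1
        rw [he, show δ lst = 1 by omega]
        exact hz (Sum.inl i)
      have hq1 : δ one < q := Nat.not_le.1 fun h => hδ ((hmem δ).2 (Or.inl h))
      have hzL : ∀ ε, ε 0 = 0 → 1 ≤ ε two' → Finsupp.degree ε = 2 → coef hG (Sum.inl two) ε φ = 0 := by
        intro ε e0 e2 ed
        obtain ⟨s, rfl⟩ := exists_eq_pair ed e2
        obtain ⟨t, rfl⟩ := Fin.exists_succ_eq.2 (show s ≠ 0 from fun h => by simp [h, Finsupp.single_apply] at e0)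
        exact hz (Sum.inr (Sum.inl t))
      by_cases hi : i = two
      · subst hi
        by_cases h2 : 1 ≤ δ two'
        · exact hzL δ h0 h2 hd
        have hle1 : δ one ≤ 2 := by have := Finsupp.le_degree one δ; omega
        let l : Fin n := if n = 3 then ⟨1, by omega⟩ else ⟨3 % n, Nat.mod_lt _ (by omega)⟩
        have vl : l.castSucc.val = if n = 3 then 1 else 3 := by
          simp only [l]
          split_ifs with h3
          · rfl
          · exact Nat.mod_eq_of_lt (by omega)
        have hl2 : l.castSucc ≠ two' := fun h => by rw [h, vtwo] at vl; split_ifs at vl <;> omega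
        have hl00 : l.castSucc ≠ 0 := fun h => by rw [h] at vl; split_ifs at vl <;> simp at vl
        refine rel_zero hG φ (u := e l.castSucc) (w := e two') (j := Sum.inl l) ?_ ?_ ?_
        · rw [gA, gA]; abel
        · refine hstd _ ?_ ?_
          · simp [Finsupp.single_apply, h0, hl00]
          · simp only [Finsupp.add_apply, Finsupp.single_apply]
            split_ifs with h
            · rw [h, vone] at vl; split_ifs at vl <;> omega
            · omega
        · intro h
          have := h two'
          simp [Finsupp.single_apply, hl2] at this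
          omega
      · have hi2 : i.castSucc ≠ two' := fun h => hi (Fin.castSucc_injective _ h)
        refine rel_shift hG φ (u := e two') (w := e i.castSucc) (j := Sum.inl two) ?_ ?_ fun hle => ?_
        · rw [gA, gA]; abel
        · refine hstd _ ?_ ?_
          · simp [Finsupp.single_apply, h0, h20]
          · simp [Finsupp.single_apply, h21]; omega
        · by_cases hm : δ + e two' - e i.castSucc ∈ exps I
          · exact coef_of_mem hG _ hm φ
          refine hzL _ ?_ ?_ ?_
          · simp [Finsupp.single_apply, h0, h20]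
          · simp [Finsupp.single_apply, hi2]
          · have := congrArg Finsupp.degree (tsub_add_cancel_of_le hle)
            simp only [map_add, Finsupp.degree_single, hd] at this
            omega
  · -- realisation
    rintro (i | t | ⟨δ, hδ⟩)
    · obtain ⟨φ, hφ, h⟩ := exists_elem hG (Sum.inl i) (e 0 + e lst) (by simp [gA, map_add]) (by
        rintro (j | x) hj
        · have hji : j ≠ i := fun h => hj (h ▸ rfl)
          refine ⟨j.castSucc, ?_, ?_⟩
          · have hne : i.castSucc ≠ j.castSucc := fun h => hji (Fin.castSucc_injective _ h).symm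
            rw [gA, gA]
            simp only [Finsupp.add_apply, Finsupp.single_apply, hne, if_false, if_true]
            omega
          · refine (hmem _).2 ?_
            by_cases hj0 : j.castSucc = 0
            · exact Or.inr (Or.inl (by simp [hj0, Finsupp.single_apply, hl0]))
            · refine Or.inr (Or.inr ⟨by simp [Finsupp.single_apply, hj0, hl0], j.castSucc, hj0, j.2, ?_⟩)
              simp [Finsupp.single_apply]
        · refine ⟨one, ?_, ?_⟩
          · rw [gA, gX]
            simp only [Finsupp.add_apply, Finsupp.single_apply, h10.symm, if_false, if_true]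
            split_ifs <;> omega
          · exact (hmem _).2 (Or.inr (Or.inr ⟨by simp [Finsupp.single_apply, h10, hl0], one, h10, by omega,
              by simp [Finsupp.single_apply]⟩)))
      refine ⟨φ, hφ, ?_, fun b' hb' _ => ?_⟩
      · exact (h _ _ ha).trans (if_pos ⟨rfl, rfl⟩)
      rcases b' with i' | t' | δ'
      · exact (h _ _ ha).trans (if_neg fun hh => hb' (congrArg Sum.inl (Sum.inl_injective hh.1)))
      · refine (h _ _ (hL t')).trans (if_neg fun hh => ?_)
        have := DFunLike.congr_fun hh.2 (0 : Fin (n + 1))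
        simp [Finsupp.single_apply, h20, Fin.succ_ne_zero, hl0] at this
      · exact (h _ _ (hT _ δ'.2).1).trans (if_neg fun hh => Sum.inr_ne_inl hh.1)
    · obtain ⟨φ, hφ, h⟩ := exists_block hG (fun j => ∃ i : Fin n, i.val ≠ 0 ∧ j = Sum.inl i) (e 0) (e t.succ)
        (by simp) (by rintro _ ⟨i, -, rfl⟩; rw [gA]; exact le_self_add) (by
        rintro _ j ⟨i, hi0, rfl⟩ hj
        have hic : i.castSucc ≠ 0 := fun h => hi0 (congrArg Fin.val h)
        refine (hmem _).2 ?_
        rcases j with j | x
        · have hj0 : j.val = 0 := Nat.eq_zero_of_not_pos fun h => hj ⟨j, by omega, rfl⟩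
          have hjc : j.castSucc = 0 := Fin.ext hj0
          refine Or.inr (Or.inr ⟨?_, i.castSucc, hic, i.2, ?_⟩)
          · simp [gA, hjc, Finsupp.single_apply, hic]
          · simp [gA, hjc, Finsupp.single_apply, hic, hic.symm]
        · refine Or.inl ?_
          simp [gA, gX, Finsupp.single_apply, h10.symm]
          omega)
      refine ⟨φ, hφ, ?_, fun b' hb' _ => ?_⟩
      · refine (h _ _ (hL t)).trans (if_pos ⟨⟨two, by simp [htwo], rfl⟩, ?_⟩)
        simp only [κ, Sum.elim_inr, Sum.elim_inl]
        rw [gA, add_tsub_cancel_left]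
      rcases b' with i' | t' | δ'
      · refine (h _ _ ha).trans (if_neg ?_)
        rintro ⟨⟨i, hi0, hii⟩, hh⟩
        have := DFunLike.congr_fun hh (0 : Fin (n + 1))
        have hic : i.castSucc ≠ 0 := fun h => hi0 (congrArg Fin.val h)
        obtain rfl : i' = i := Sum.inl_injective hii
        simp only [κ, Sum.elim_inl] at this
        simp [gA, Finsupp.single_apply, hic, Fin.succ_ne_zero, hl0] at this
      · refine (h _ _ (hL t')).trans (if_neg fun hh => hb' ?_)
        have h2 := hh.2
        simp only [κ, Sum.elim_inr, Sum.elim_inl] at h2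
        rw [gA, add_tsub_cancel_left] at h2
        rw [Fin.succ_injective _ (single_one_injective (add_left_cancel h2))]
      · exact (h _ _ (hT _ δ'.2).1).trans (if_neg fun hh => by obtain ⟨i, -, hi⟩ := hh.1; exact Sum.inr_ne_inl hi)
    · obtain ⟨hδs, hδd, hδn⟩ := hT δ hδ
      obtain ⟨φ, hφ, h⟩ := exists_elem hG (Sum.inr ()) δ (by simp [gX, hδd]) (by
        rintro (j | x) hj
        swap
        · exact absurd rfl hj
        refine ⟨0, by simp [gA, gX, Finsupp.single_apply, h10], (hmem _).2 ?_⟩
        by_cases h0 : δ 0 = 0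
        · obtain ⟨s, hs, hsl⟩ : ∃ s, 1 ≤ δ s ∧ s ≠ lst := by
            by_contra hall
            refine hδn (Finsupp.ext fun s => ?_)
            have hz : ∀ s, s ≠ lst → δ s = 0 := fun s hs => by
              by_contra h
              exact hall ⟨s, Nat.one_le_iff_ne_zero.2 h, hs⟩
            rcases eq_or_ne s lst with rfl | hs
            · rw [Finsupp.single_eq_same, ← hδd, degree_two_support 0 lst hl0.symm fun t _ ht => hz t ht, h0, zero_add]
            · rw [hz s hs, Finsupp.single_eq_of_ne hs]
          have hs0 : s ≠ 0 := fun h => by rw [h, h0] at hs; omega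
          refine Or.inr (Or.inr ⟨by simp, s, hs0, ?_, by simp; omega⟩)
          have := s.2
          have : s.val ≠ n := fun h' => hsl (Fin.ext (by rw [h', vlst]))
          omega
        · exact Or.inr (Or.inl (by simp; omega)))
      refine ⟨φ, hφ, ?_, fun b' hb' _ => ?_⟩
      · exact (h _ _ hδs).trans (if_pos ⟨rfl, rfl⟩)
      rcases b' with i' | t' | δ'
      · exact (h _ _ ha).trans (if_neg fun hh => Sum.inl_ne_inr hh.1)
      · exact (h _ _ (hL t')).trans (if_neg fun hh => Sum.inl_ne_inr hh.1)
      · exact (h _ _ (hT _ δ'.2).1).trans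
          (if_neg fun hh => hb' (congrArg (fun x => Sum.inr (Sum.inr x)) (Subtype.ext hh.2.symm)))

end Groth.Agent.H27Hilb0.PowPoint
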