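import Groth.Agent.H27Hilb0.HomBound
import Groth.Agent.H25Hilb.Slice
import Groth.Agent.S13437

/-! # `T(I) ≤ (2p + 1) d` for monomial `I ⊆ k[x,y,z]` containing `x^p` -/

set_option backward.isDefEq.respectTransparency.types false

open MvPolynomial W4c1hilbpn Groth.Agent.H25Hilb

namespace Groth.Agent.H27Hilb0

universe u
variable {k : Type u} [Field k] {I : Ideal (MvPolynomial (Fin 3) k)}

/-- the coefficient of `x^c`, a polynomial in `y, z` -/
noncomputable def xc (c : ℕ) : MvPolynomial (Fin 3) k →ₗ[k] MvPolynomial (Fin 2) k :=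
  ((Polynomial.lcoeff (MvPolynomial (Fin 2) k) c).restrictScalars k).comp (finSuccEquiv k 2).toLinearMap

theorem xc_coeff (c : ℕ) (p : MvPolynomial (Fin 3) k) (β : Fin 2 →₀ ℕ) :
    coeff β (xc c p) = coeff (β.cons c) p := finSuccEquiv_coeff_coeff β p c

theorem cons_eq (c : ℕ) (β : Fin 2 →₀ ℕ) :
    β.cons c = Finsupp.single (0 : Fin 3) c + β.mapDomain Fin.succ := by
  refine Finsupp.ext fun l => Fin.cases ?_ (fun j => ?_) l
  · rw [Finsupp.cons_zero, Finsupp.add_apply]
    simp [Finsupp.mapDomain_notin_range _ _ (show (0 : Fin 3) ∉ Set.range Fin.succ by simp)]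
  · rw [Finsupp.cons_succ, Finsupp.add_apply, Finsupp.single_eq_of_ne (Fin.succ_ne_zero j),
      Finsupp.mapDomain_apply (Fin.succ_injective 2), zero_add]

theorem exps_slice' (hI : IsMonomial I) (c : ℕ) (β : Fin 2 →₀ ℕ) :
    β ∈ exps (sliceX I c) ↔ (β.cons c : Fin 3 →₀ ℕ) ∈ exps I := by
  classical
  refine (mem_slice hI c (monomial β (1 : k))).trans ?_
  rw [support_monomial, if_neg one_ne_zero, cons_eq]
  simp

theorem finSuccEquiv_rename (r : MvPolynomial (Fin 2) k) :
    finSuccEquiv k 2 (rename Fin.succ r) = Polynomial.C r := by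
  induction r using MvPolynomial.induction_on with
  | C a => simp [finSuccEquiv_apply]
  | add p q hp hq => simp [map_add, hp, hq]
  | mul_X p i hp => rw [map_mul, map_mul, hp, rename_X, finSuccEquiv_X_succ, ← Polynomial.C_mul]

theorem xc_mul (c : ℕ) (r : MvPolynomial (Fin 2) k) (p : MvPolynomial (Fin 3) k) :
    xc c (rename Fin.succ r * p) = r * xc c p := by
  show Polynomial.coeff (finSuccEquiv k 2 (rename Fin.succ r * p)) c = _
  rw [map_mul, finSuccEquiv_rename, Polynomial.coeff_C_mul]; rfl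

theorem xc_pow (c j : ℕ) (f : MvPolynomial (Fin 2) k) :
    xc c (rename Fin.succ f * X 0 ^ j) = if c = j then f else 0 := by
  show Polynomial.coeff (finSuccEquiv k 2 (rename Fin.succ f * X 0 ^ j)) c = _
  rw [map_mul, map_pow, finSuccEquiv_rename, finSuccEquiv_X_zero, Polynomial.coeff_C_mul_X_pow]

theorem xc_mem (hI : IsMonomial I) (c : ℕ) {p : MvPolynomial (Fin 3) k} (hp : p ∈ I) : xc c p ∈ sliceX I c := by
  refine (mem_slice hI c _).2 fun β hβ => ?_
  rw [MvPolynomial.mem_support_iff, xc_coeff] at hβ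
  exact cons_eq c β ▸ hI p hp _ (MvPolynomial.mem_support_iff.2 hβ)

/-- the projection of `S ⧸ I` to the slice `R ⧸ I_c` -/
noncomputable def xq (hI : IsMonomial I) (c : ℕ) :
    (MvPolynomial (Fin 3) k ⧸ I) →ₗ[k] MvPolynomial (Fin 2) k ⧸ sliceX I c :=
  ((I.restrictScalars k).liftQ ((Ideal.Quotient.mkₐ k (sliceX I c)).toLinearMap.comp (xc c))
    fun _ hp => LinearMap.mem_ker.2 (Ideal.Quotient.eq_zero_iff_mem.2 (xc_mem hI c hp))).comp
    (Submodule.Quotient.restrictScalarsEquiv k I).symm.toLinearMap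

theorem xq_mk (hI : IsMonomial I) (c : ℕ) (p : MvPolynomial (Fin 3) k) :
    xq hI c (Ideal.Quotient.mk I p) = Ideal.Quotient.mk _ (xc c p) := rfl

theorem xq_smul (hI : IsMonomial I) (c : ℕ) (r : MvPolynomial (Fin 2) k) (x : MvPolynomial (Fin 3) k ⧸ I) :
    xq hI c (rename Fin.succ r • x) = r • xq hI c x := by
  obtain ⟨p, rfl⟩ := Ideal.Quotient.mk_surjective x
  rw [show rename Fin.succ r • Ideal.Quotient.mk I p = Ideal.Quotient.mk I (rename Fin.succ r * p) from rfl,
    xq_mk, xq_mk, xc_mul]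
  rfl

/-- multiplication by `x^b`, from the slice to the ideal -/
noncomputable def xmul (b : ℕ) (f : ↥(sliceX I b)) : ↥I :=
  ⟨rename Fin.succ f.1 * X 0 ^ b, Submodule.mem_colon_singleton.1 f.2⟩

/-- the `(b, c)` component of a tangent vector -/
noncomputable def comp₂ (hI : IsMonomial I) (b c : ℕ) :
    Tgt I →ₗ[k] (↥(sliceX I b) →ₗ[MvPolynomial (Fin 2) k] MvPolynomial (Fin 2) k ⧸ sliceX I c) where
  toFun φ :=
    { toFun := fun f => xq hI c (φ (xmul b f))
      map_add' := fun f g => by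
        rw [show xmul b (f + g) = xmul b f + xmul b g from Subtype.ext (by simp [xmul, add_mul]), map_add, map_add]
      map_smul' := fun r f => by
        rw [show xmul b (r • f) = rename Fin.succ r • xmul b f from Subtype.ext (by simp [xmul, mul_assoc]),
          map_smul, xq_smul]
        rfl }
  map_add' φ ψ := LinearMap.ext fun f => map_add (xq hI c) (φ (xmul b f)) (ψ (xmul b f))
  map_smul' a φ := LinearMap.ext fun f => map_smul (xq hI c) a (φ (xmul b f))

/-- tangent vectors not lowering the degree in `x` -/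
noncomputable def nonneg (hI : IsMonomial I) : Submodule k (Tgt I) where
  carrier := {φ | ∀ (β : Fin 3 →₀ ℕ) (hβ : β ∈ exps I) (δ : Fin 3 →₀ ℕ), δ 0 < β 0 → cq hI δ (φ (mon hβ)) = 0}
  zero_mem' := fun β hβ δ _ => by rw [LinearMap.zero_apply, map_zero]
  add_mem' {φ ψ} h1 h2 := fun β hβ δ h => by rw [LinearMap.add_apply, map_add, h1 β hβ δ h, h2 β hβ δ h, add_zero]
  smul_mem' a φ h1 := fun β hβ δ h => by rw [LinearMap.smul_apply, map_smul, h1 β hβ δ h, smul_zero]

theorem finrank_le_sum_of_joint_injective {V : Type*} [AddCommGroup V] [Module k V] {ι : Type*} [Fintype ι]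
    {W : ι → Type*} [∀ i, AddCommGroup (W i)] [∀ i, Module k (W i)] (hW : ∀ i, Module.Finite k (W i))
    (f : ∀ i, V →ₗ[k] W i) (h : ∀ v, (∀ i, f i v = 0) → v = 0) :
    Module.finrank k V ≤ ∑ i, Module.finrank k (W i) := by
  have := hW
  rw [← Module.finrank_pi_fintype k]
  exact LinearMap.finrank_le_finrank_of_injective (f := LinearMap.pi f)
    ((injective_iff_map_eq_zero _).2 fun v hv => h v fun i => congrFun hv i)

variable [Module.Finite k (MvPolynomial (Fin 3) k ⧸ I)]

theorem sum_le_nonneg (hI : IsMonomial I) :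
    Module.finrank k ↥(sigPiece I {1}) + Module.finrank k ↥(sigPiece I {2}) +
      Module.finrank k ↥(sigPiece I ({0}ᶜ : Set (Fin 3))) ≤ Module.finrank k ↥(nonneg hI) := by
  classical
  have := finite_tgt (I := I)
  let P : Set (Fin 3) → (Fin 3 → ℤ) → Prop := fun N α => ∀ i, α i < 0 ↔ i ∈ N
  have hs : ∀ N, Module.finrank k ↥(sigPiece I N) = ∑ α ∈ sel hI (P N), Module.finrank k ↥(tPiece I α) :=
    fun N => finrank_iSup_filter hI (P N)
  have hd : ∀ (N M : Set (Fin 3)) (l : Fin 3), l ∈ N → l ∉ M → Disjoint (sel hI (P N)) (sel hI (P M)) := by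
    intro N M l hN hM
    rw [Finset.disjoint_left]
    intro α h1 h2
    exact hM ((((mem_sel hI _ α).1 h2).2 l).1 ((((mem_sel hI _ α).1 h1).2 l).2 hN))
  have d1 : Disjoint (sel hI (P {1})) (sel hI (P {2})) := hd _ _ 1 (by simp) (by simp)
  have d2 : Disjoint (sel hI (P {1}) ∪ sel hI (P {2})) (sel hI (P ({0}ᶜ : Set (Fin 3)))) :=
    Finset.disjoint_union_left.2 ⟨(hd _ _ 2 (by simp) (by simp)).symm, (hd _ _ 1 (by simp) (by simp)).symm⟩
  rw [hs, hs, hs, ← Finset.sum_union d1, ← Finset.sum_union d2, ← finrank_finset_sup hI]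
  refine Submodule.finrank_mono (Finset.sup_le fun α hα φ hφ β hβ δ hlt => ?_)
  by_contra hne
  have h := congrFun ((mem_tPiece_iff hI).1 hφ β hβ δ hne) 0
  have h0 : 0 ≤ α 0 := by
    simp only [Finset.mem_union, mem_sel, P] at hα
    rcases hα with (⟨-, h⟩ | ⟨-, h⟩) | ⟨-, h⟩ <;> exact not_lt.1 fun hh => by simpa using (h 0).1 hh
  simp only [zv, Pi.add_apply] at h
  omega

theorem comp_eq_zero (hI : IsMonomial I) {p : ℕ} (hx : (X 0 : MvPolynomial (Fin 3) k) ^ p ∈ I) {φ : Tgt I}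
    (hφ : φ ∈ nonneg hI) (h : ∀ c < p, ∀ b ≤ c, comp₂ hI b c φ = 0) : φ = 0 := by
  classical
  refine tgt_ext_cq hI fun β hβ δ hδ => ?_
  rw [LinearMap.zero_apply, map_zero]
  rcases lt_or_ge (δ 0) (β 0) with hlt | hge
  · exact hφ β hβ δ hlt
  have hc : δ 0 < p := by
    by_contra hn
    refine hδ (exps_of_le (β := Finsupp.single 0 p) ?_ (Finsupp.single_le_iff.2 (not_lt.1 hn)))
    show monomial _ (1 : k) ∈ I
    rwa [← X_pow_eq_monomial]
  have eβ : β.tail.cons (β 0) = β := Finsupp.cons_tail β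
  have eδ : δ.tail.cons (δ 0) = δ := Finsupp.cons_tail δ
  have hf : monomial β.tail (1 : k) ∈ sliceX I (β 0) := by
    refine (exps_slice' hI (β 0) β.tail).2 ?_
    rwa [eβ]
  have h0 := DFunLike.congr_fun (h (δ 0) hc (β 0) hge) ⟨_, hf⟩
  have em : xmul (β 0) ⟨_, hf⟩ = mon hβ := Subtype.ext (by
    show rename Fin.succ (monomial β.tail (1 : k)) * X 0 ^ β 0 = monomial β 1
    rw [rename_monomial, X_pow_eq_monomial, monomial_mul, mul_one]
    exact congrArg (fun e => monomial e (1 : k)) ((add_comm _ _).trans ((cons_eq (β 0) β.tail).symm.trans eβ)))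
  change xq hI (δ 0) (φ (xmul (β 0) ⟨_, hf⟩)) = 0 at h0
  rw [em] at h0
  obtain ⟨q, hq⟩ := Ideal.Quotient.mk_surjective (φ (mon hβ))
  rw [← hq, xq_mk, Ideal.Quotient.eq_zero_iff_mem] at h0
  rw [← hq, cq_mk hI hδ]
  by_contra hne
  have hs : δ.tail ∈ (xc (δ 0) q).support := by rwa [MvPolynomial.mem_support_iff, xc_coeff, eδ]
  exact hδ (eδ ▸ (cons_eq (δ 0) δ.tail ▸ (mem_slice hI _ _).1 h0 _ hs))

theorem finite_slice (hI : IsMonomial I) (c : ℕ) : Module.Finite k (MvPolynomial (Fin 2) k ⧸ sliceX I c) := by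
  refine Module.Finite.of_surjective (xq hI c) fun x => ?_
  obtain ⟨f, rfl⟩ := Ideal.Quotient.mk_surjective x
  exact ⟨Ideal.Quotient.mk I (rename Fin.succ f * X 0 ^ c), by rw [xq_mk, xc_pow, if_pos rfl]⟩

theorem sum_slice_le (hI : IsMonomial I) (p : ℕ) :
    ∑ c ∈ Finset.range p, Module.finrank k (MvPolynomial (Fin 2) k ⧸ sliceX I c) ≤
      Module.finrank k (MvPolynomial (Fin 3) k ⧸ I) := by
  classical
  have := finite_slice (k := k) hI
  let L : (MvPolynomial (Fin 3) k ⧸ I) →ₗ[k] ((c : Fin p) → MvPolynomial (Fin 2) k ⧸ sliceX I c) :=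
    LinearMap.pi fun c => xq hI c
  have hL : Function.Surjective L := fun g => by
    choose f hf using fun c => Ideal.Quotient.mk_surjective (g c)
    refine ⟨∑ c, Ideal.Quotient.mk I (rename Fin.succ (f c) * X 0 ^ (c : ℕ)), funext fun c => ?_⟩
    show xq hI c _ = g c
    rw [map_sum, Finset.sum_eq_single c]
    · rw [xq_mk, xc_pow, if_pos rfl, hf]
    · intro b _ hb
      rw [xq_mk, xc_pow, if_neg (fun h => hb (Fin.ext h.symm)), map_zero]
    · exact fun h => absurd (Finset.mem_univ c) h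
  have h := LinearMap.finrank_le_finrank_of_surjective hL
  rw [Module.finrank_pi_fintype, Fin.sum_univ_eq_sum_range (fun c => Module.finrank k (MvPolynomial (Fin 2) k ⧸ sliceX I c))] at h
  exact h

theorem pairs_sum (d : ℕ → ℕ) (p : ℕ) :
    ∑ c ∈ Finset.range p, ∑ b ∈ Finset.range (c + 1), (d c + d b) = (p + 1) * ∑ c ∈ Finset.range p, d c := by
  induction p with
  | zero => simp
  | succ p ih =>
    rw [Finset.sum_range_succ, ih, Finset.sum_add_distrib, Finset.sum_const, Finset.card_range, smul_eq_mul,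
      Finset.sum_range_succ]
    ring

theorem exists_pow_mem_slice (hI : IsMonomial I) (b : ℕ) (j : Fin 2) :
    ∃ t, (X j : MvPolynomial (Fin 2) k) ^ t ∈ sliceX I b := by
  obtain ⟨t, ht⟩ := exists_add_single_mem hI (Finsupp.single 0 b) j.succ
  refine ⟨t, ?_⟩
  rw [X_pow_eq_monomial]
  exact (exps_slice' hI b _).2 (by rwa [cons_eq, Finsupp.mapDomain_single])

theorem finrank_tgt_le (hI : IsMonomial I) {p : ℕ} (hx : (X 0 : MvPolynomial (Fin 3) k) ^ p ∈ I) :
    Module.finrank k (Tgt I) ≤ (2 * p + 1) * Module.finrank k (MvPolynomial (Fin 3) k ⧸ I) := by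
  classical
  have := finite_tgt (I := I)
  have := finite_slice (k := k) hI
  have := fun b c => finite_hom (k := k) (M := MvPolynomial (Fin 2) k ⧸ sliceX I c) (sliceX I b)
  have h1 := (sum_le_nonneg hI).trans (finrank_le_sum_of_joint_injective
    (W := fun i : (Σ c : Fin p, Fin (c.1 + 1)) =>
      ↥(sliceX I i.2.1) →ₗ[MvPolynomial (Fin 2) k] MvPolynomial (Fin 2) k ⧸ sliceX I i.1.1)
    (fun i => this i.2.1 i.1.1)
    (fun i => (comp₂ hI i.2.1 i.1.1).comp (nonneg hI).subtype)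
    fun φ hφ => Subtype.ext (comp_eq_zero hI hx φ.2 fun c hc b hb => hφ ⟨⟨c, hc⟩, ⟨b, Nat.lt_succ_of_le hb⟩⟩))
  have h2 : ∑ i : (Σ c : Fin p, Fin (c.1 + 1)), Module.finrank k
      (↥(sliceX I i.2.1) →ₗ[MvPolynomial (Fin 2) k] MvPolynomial (Fin 2) k ⧸ sliceX I i.1.1) ≤
      (p + 1) * Module.finrank k (MvPolynomial (Fin 3) k ⧸ I) := by
    refine le_trans ?_ (Nat.mul_le_mul_left _ (sum_slice_le hI p))
    rw [Fintype.sum_sigma, ← pairs_sum, ← Fin.sum_univ_eq_sum_range]
    refine Finset.sum_le_sum fun c _ => ?_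
    rw [← Fin.sum_univ_eq_sum_range]
    exact Finset.sum_le_sum fun b _ => finrank_hom_le (cyclic_quot _) _ (exists_pow_mem_slice hI b 0)
      (exists_pow_mem_slice hI b 1)
  have hT := Groth.Agent.S13437.tgt_eq_sum hI
  rw [Fin.sum_univ_three] at hT
  have e0 := finrank_sigPiece_singleton hI 0
  have e1 := finrank_sigPiece_singleton hI 1
  have e2 := finrank_sigPiece_singleton hI 2
  have h3 := h1.trans h2
  rw [add_mul, one_mul] at h3
  rw [add_mul, one_mul, mul_assoc]
  omega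

end Groth.Agent.H27Hilb0
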