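/-
The ideals `x₀·(x₀, …, xₙ₋₁) + x₁^q·(x₁, …, xₘ)`.
-/
import Groth.Agent.H27Hilb0.Core
import Groth.Agent.H27Hilb0.Fin

set_option autoImplicit false

open MvPolynomial W4c1hilbpn

namespace Groth.Agent.H27Hilb0.TwoBlock

open H25Hilb
open scoped Classical

variable {k : Type*} [Field k] {n q m : ℕ}

/-- The variable with index `j + 1`. -/
def bvar (n : ℕ) {m : ℕ} (j : Fin m) : Fin (n + 1) := Fin.ofNat (n + 1) (j.val + 1)

/-- The variable `x₁`. -/
def one (n : ℕ) : Fin (n + 1) := Fin.ofNat (n + 1) 1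

/-- The generators. -/
noncomputable def G (n q m : ℕ) : Fin n ⊕ Fin m → (Fin (n + 1) →₀ ℕ) :=
  Sum.elim (fun i => e 0 + e i.castSucc) fun j => Finsupp.single (one n) q + e (bvar n j)

theorem G_inl (i : Fin n) : G n q m (Sum.inl i) = e 0 + e i.castSucc := rfl

theorem G_inr (j : Fin m) : G n q m (Sum.inr j) = Finsupp.single (one n) q + e (bvar n j) := rfl

theorem val_bvar (hm : m < n) (j : Fin m) : (bvar n j).val = j.val + 1 := Nat.mod_eq_of_lt (by omega)

theorem val_one (hn : 1 ≤ n) : (one n).val = 1 := Nat.mod_eq_of_lt (by omega)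

variable {I : Ideal (MvPolynomial (Fin (n + 1)) k)}

theorem mem_iff (hq : 1 ≤ q) (hm2 : 2 ≤ m) (hmn : m < n) (hG : IsGen I (G n q m)) (δ : Fin (n + 1) →₀ ℕ) :
    δ ∈ exps I ↔ (2 ≤ δ 0 ∨ (1 ≤ δ 0 ∧ ∃ t : Fin (n + 1), t ≠ 0 ∧ t.val < n ∧ 1 ≤ δ t)) ∨ q + 1 ≤ δ (one n) ∨
      (q ≤ δ (one n) ∧ ∃ s : Fin (n + 1), 2 ≤ s.val ∧ s.val ≤ m ∧ 1 ≤ δ s) := by
  have v1 := val_one (n := n) (by omega)
  rw [hG.iff]
  constructor
  · rintro ⟨i | j, h⟩
    · rw [G_inl, pair_le] at h
      rcases h with ⟨-, h⟩ | ⟨hne, h1, h2⟩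
      · exact Or.inl (Or.inl h)
      · exact Or.inl (Or.inr ⟨h1, _, hne.symm, i.2, h2⟩)
    · rw [G_inr] at h
      have h1 := h (one n)
      have h2 := h (bvar n j)
      by_cases hb : bvar n j = one n
      · rw [hb] at h2
        simp [hb] at h2
        exact Or.inr (Or.inl h2)
      · simp [Finsupp.single_apply, hb, Ne.symm hb] at h1 h2
        refine Or.inr (Or.inr ⟨h1, _, ?_, ?_, h2⟩)
        · have := val_bvar hmn j
          have : (bvar n j).val ≠ 1 := fun h' => hb (Fin.ext (by rw [h', v1]))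
          omega
        · rw [val_bvar hmn j]; omega
  · rintro ((h | ⟨h0, t, ht0, htn, h1⟩) | h | ⟨h, s, hs2, hsm, h1⟩)
    · refine ⟨Sum.inl ⟨0, by omega⟩, ?_⟩
      rw [G_inl, pair_le]
      exact Or.inl ⟨Fin.ext rfl, h⟩
    · refine ⟨Sum.inl ⟨t.val, htn⟩, ?_⟩
      rw [G_inl, pair_le]
      exact Or.inr ⟨fun h => ht0 (by rw [h]; rfl), h0, h1⟩
    · refine ⟨Sum.inr ⟨0, by omega⟩, ?_⟩
      rw [G_inr, show bvar n (⟨0, by omega⟩ : Fin m) = one n from rfl, ← Finsupp.single_add, Finsupp.single_le_iff]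
      exact h
    · refine ⟨Sum.inr ⟨s.val - 1, by omega⟩, ?_⟩
      have hb : bvar n (⟨s.val - 1, by omega⟩ : Fin m) = s := Fin.ext (by rw [val_bvar hmn]; show s.val - 1 + 1 = s.val; omega)
      have hs1 : s ≠ one n := fun h' => by rw [h', v1] at hs2; omega
      rw [G_inr, hb]
      intro t
      simp only [Finsupp.add_apply, Finsupp.single_apply]
      split_ifs with ht1 ht2 ht2 <;> subst_vars <;> first | exact absurd rfl hs1 | omega

theorem std (hq : 1 ≤ q) (hm2 : 2 ≤ m) (hmn : m < n) (hG : IsGen I (G n q m)) {δ : Fin (n + 1) →₀ ℕ}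
    (h0 : δ 0 = 0) (h1 : δ (one n) < q) : δ ∉ exps I := fun h => by
  rcases (mem_iff hq hm2 hmn hG δ).1 h with (h | ⟨h, -⟩) | h | ⟨h, -⟩ <;> omega

theorem std' (hq : 1 ≤ q) (hm2 : 2 ≤ m) (hmn : m < n) (hG : IsGen I (G n q m)) {δ : Fin (n + 1) →₀ ℕ}
    (h0 : δ 0 = 0) (h1 : δ (one n) ≤ q) (h2 : ∀ s : Fin (n + 1), 2 ≤ s.val → s.val ≤ m → δ s = 0) :
    δ ∉ exps I := fun h => by
  rcases (mem_iff hq hm2 hmn hG δ).1 h with (h | ⟨h, -⟩) | h | ⟨-, s, hs2, hsm, h⟩
  · omega
  · omega
  · omega
  · have := h2 s hs2 hsm; omega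

theorem x0_form (hq : 1 ≤ q) (hm2 : 2 ≤ m) (hmn : m < n) (hG : IsGen I (G n q m)) {δ : Fin (n + 1) →₀ ℕ}
    (hδ : δ ∉ exps I) (h0 : δ 0 ≠ 0) : δ = e 0 + Finsupp.single (Fin.last n) (δ (Fin.last n)) := by
  have h1 : δ 0 = 1 := by
    by_contra h
    exact hδ ((mem_iff hq hm2 hmn hG δ).2 (Or.inl (Or.inl (by omega))))
  have hl0 : Fin.last n ≠ 0 := fun h => by have := congrArg Fin.val h; simp at this; omega
  conv_lhs => rw [eq_two_support (δ := δ) 0 (Fin.last n) hl0.symm fun t ht0 htl => by
    by_contra h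
    refine hδ ((mem_iff hq hm2 hmn hG δ).2 (Or.inl (Or.inr ⟨by omega, t, ht0, ?_, Nat.one_le_iff_ne_zero.2 h⟩)))
    have := t.2
    have : t.val ≠ n := fun h' => htl (Fin.ext h')
    omega, h1]

theorem finrank_deg0 (hq : 1 ≤ q) (hm2 : 2 ≤ m) (hmn : m < n) (hG : IsGen I (G n q m))
    (Q : Finset (Fin n × (Fin (n + 1) →₀ ℕ)))
    (hQ : ∀ x ∈ Q, x.2 ∉ exps I ∧ x.2 0 = 0)
    (hQinj : ∀ φ : Tgt I, (∀ x ∈ Q, coef hG (Sum.inl x.1) x.2 φ = 0) →
      ∀ i δ, δ 0 = 0 → δ ∉ exps I → Finsupp.degree δ = 2 → coef hG (Sum.inl i) δ φ = 0)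
    (hQhom : ∀ x ∈ Q, ∃ φ ∈ deg0 I, coef hG (Sum.inl x.1) x.2 φ = 1 ∧
      (∀ y ∈ Q, y ≠ x → coef hG (Sum.inl y.1) y.2 φ = 0) ∧
      (∀ i δ, δ ∉ exps I → δ 0 ≠ 0 → coef hG (Sum.inl i) δ φ = 0) ∧
      ∀ j δ, δ ∉ exps I → coef hG (Sum.inr j) δ φ = 0) :
    Module.finrank k (deg0 I) = n + Q.card + m * (n - m) + m + (Nat.choose (n + q - 1) (n - 1) - 1) := by
  have hn : 3 ≤ n := by omega
  have v1 : (one n).val = 1 := val_one (by omega)
  set lst : Fin (n + 1) := Fin.last n with hlst
  have vlst : lst.val = n := by simp [hlst]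
  set j1 : Fin m := ⟨1, by omega⟩ with hj1
  set two : Fin (n + 1) := bvar n j1 with htwo
  have vtwo : two.val = 2 := val_bvar hmn j1
  have h10 : one n ≠ 0 := fun h => by simp [h] at v1
  have hl0 : lst ≠ 0 := fun h => by simp [h] at vlst; omega
  have hl1 : lst ≠ one n := fun h => by rw [h, v1] at vlst; omega
  have h20 : two ≠ 0 := fun h => by simp [h] at vtwo
  have h21 : two ≠ one n := fun h => by rw [h, v1] at vtwo; omega
  have hb0 : ∀ j : Fin m, bvar n j ≠ 0 := fun j h => by
    have := val_bvar hmn j; simp [h] at this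
  have hbn : ∀ j : Fin m, (bvar n j).val < n := fun j => by rw [val_bvar hmn j]; omega
  have hbm : ∀ j : Fin m, (bvar n j).val ≤ m := fun j => by rw [val_bvar hmn j]; omega
  have hbinj : ∀ j j' : Fin m, bvar n j = bvar n j' → j = j' := fun j j' h =>
    Fin.ext (by have := congrArg Fin.val h; rw [val_bvar hmn, val_bvar hmn] at this; omega)
  have hb1 : ∀ j : Fin m, bvar n j ≠ one n → 2 ≤ (bvar n j).val := fun j h => by
    have := val_bvar hmn j
    have : (bvar n j).val ≠ 1 := fun h' => h (Fin.ext (by rw [h', v1]))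
    omega
  have hM := mem_iff hq hm2 hmn hG
  have hx0mem : ∀ δ : Fin (n + 1) →₀ ℕ, ∀ t : Fin (n + 1), t ≠ 0 → t.val < n → 1 ≤ δ 0 → 1 ≤ δ t → δ ∈ exps I :=
    fun δ t ht htn h0 h1 => (hM δ).2 (Or.inl (Or.inr ⟨h0, t, ht, htn, h1⟩))
  -- the coordinates
  let W : Finset (Fin (n + 1)) := Finset.Ioi ⟨m, by omega⟩
  have hW : ∀ t ∈ W, m < t.val := fun t ht => (Finset.mem_Ioi (α := Fin (n + 1))).1 ht
  let Hs := (noZero n q).erase (Finsupp.single (one n) q)
  have hHs : ∀ h ∈ Hs, h 0 = 0 ∧ Finsupp.degree h = q ∧ h (one n) < q := by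
    intro h hh
    obtain ⟨hne, hh⟩ := Finset.mem_erase.1 hh
    obtain ⟨h0, hd⟩ := mem_noZero.1 hh
    refine ⟨h0, hd, ?_⟩
    by_contra hge
    have hle : Finsupp.single (one n) q ≤ h := Finsupp.single_le_iff.2 (by omega)
    have he := congrArg Finsupp.degree (tsub_add_cancel_of_le hle)
    rw [map_add, Finsupp.degree_single, hd] at he
    refine hne ?_
    rw [← tsub_add_cancel_of_le hle,
      (Finsupp.degree_eq_zero_iff _).1 (show Finsupp.degree (h - Finsupp.single (one n) q) = 0 by omega), zero_add]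
  let κ : Fin n ⊕ Q ⊕ (Fin m × W) ⊕ Fin m ⊕ Hs → (Fin n ⊕ Fin m) × (Fin (n + 1) →₀ ℕ) :=
    Sum.elim (fun i => (Sum.inl i, e 0 + e lst))
      (Sum.elim (fun x => (Sum.inl x.1.1, x.1.2))
        (Sum.elim (fun p => (Sum.inr p.1, Finsupp.single (one n) q + e p.2.1))
          (Sum.elim (fun j => (Sum.inr j, e 0 + Finsupp.single lst q))
            fun h => (Sum.inr j1, e two + h.1))))
  have ha : ∀ c, e 0 + Finsupp.single lst c ∉ exps I := fun c h => by
    rcases (hM _).1 h with (h | ⟨-, t, ht0, htn, h⟩) | h | ⟨h, -⟩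
    · simp [Finsupp.single_apply, hl0] at h
    · have : lst ≠ t := fun h' => by rw [← h', vlst] at htn; omega
      simp [Finsupp.single_apply, ht0.symm, this] at h
    · simp [Finsupp.single_apply, hl1, h10.symm] at h
    · simp [Finsupp.single_apply, hl1, h10.symm] at h; omega
  have hW0 : ∀ t ∈ W, t ≠ 0 ∧ t ≠ one n := fun t ht => by
    have := hW t ht
    exact ⟨fun h => by simp [h] at this, fun h => by rw [h, v1] at this; omega⟩
  have hc : ∀ t ∈ W, Finsupp.single (one n) q + e t ∉ exps I := fun t ht =>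
    std' hq hm2 hmn hG (by simp [Finsupp.single_apply, h10, (hW0 t ht).1])
      (by simp [Finsupp.single_apply, (hW0 t ht).2]) fun s hs2 hsm => by
        have := hW t ht
        have h1 : one n ≠ s := fun h => by rw [← h, v1] at hs2; omega
        have h2 : t ≠ s := fun h => by rw [← h] at hsm; omega
        simp [Finsupp.single_apply, h1, h2]
  have hh : ∀ h ∈ Hs, e two + h ∉ exps I := fun h hh =>
    std hq hm2 hmn hG (by simp [Finsupp.single_apply, h20, (hHs h hh).1])
      (by simp [Finsupp.single_apply, h21]; exact (hHs h hh).2.2)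
  rw [Groth.Agent.H27Hilb0.finrank_deg0 hG κ Set.univ ?_ ?_]
  · -- the count
    simp only [Fintype.card_sum, Fintype.card_prod, Fintype.card_fin, Fintype.card_coe]
    have h1q : Finsupp.single (one n) q ∈ noZero n q := mem_noZero.2 ⟨by simp [h10.symm], Finsupp.degree_single _ _⟩
    have c2 := Finset.card_erase_add_one h1q
    rw [card_noZero, Nat.multichoose_eq, ← Nat.choose_symm (show q ≤ n + q - 1 by omega),
      show n + q - 1 - q = n - 1 by omega] at c2
    have cW : W.card = n - m := by simp [W]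
    have cH : Hs.card + 1 = (n + q - 1).choose (n - 1) := c2
    rw [cW]; omega
  · -- injectivity
    intro φ _ hz i δ hδ hd
    rcases i with i | j
    · rw [G_inl, map_add, Finsupp.degree_single, Finsupp.degree_single] at hd
      by_cases h0 : δ 0 = 0
      · exact hQinj φ (fun x hx => hz (Sum.inr (Sum.inl ⟨x, hx⟩))) i δ h0 hδ hd
      · have he := x0_form hq hm2 hmn hG hδ h0
        have h1 := congrArg Finsupp.degree he
        rw [map_add, Finsupp.degree_single, Finsupp.degree_single, hd] at h1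
        rw [he, show δ (Fin.last n) = 1 by omega]
        exact hz (Sum.inl i)
    · rw [G_inr, map_add, Finsupp.degree_single, Finsupp.degree_single] at hd
      by_cases h0 : δ 0 = 0
      swap
      · have he := x0_form hq hm2 hmn hG hδ h0
        have h1 := congrArg Finsupp.degree he
        rw [map_add, Finsupp.degree_single, Finsupp.degree_single, hd] at h1
        rw [he, show δ (Fin.last n) = q by omega]
        exact hz (Sum.inr (Sum.inr (Sum.inr (Sum.inl j))))
      by_cases hq1 : q ≤ δ (one n)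
      · have h1q : δ (one n) = q := le_antisymm (Nat.not_lt.1 fun h => hδ ((hM δ).2 (Or.inr (Or.inl h)))) hq1
        have hle : Finsupp.single (one n) q ≤ δ := Finsupp.single_le_iff.2 hq1
        have he := congrArg Finsupp.degree (tsub_add_cancel_of_le hle)
        rw [map_add, Finsupp.degree_single, hd] at he
        obtain ⟨t, ht⟩ := exists_eq_e (δ := δ - Finsupp.single (one n) q) (by omega)
        have hδe : δ = Finsupp.single (one n) q + e t := by rw [← ht, add_tsub_cancel_of_le hle]
        have ht1 : t ≠ one n := fun h => by rw [hδe, h] at h1q; simp at h1q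
        have ht0 : t ≠ 0 := fun h => by rw [hδe, h] at h0; simp [Finsupp.single_apply, h10] at h0
        have htW : t ∈ W := Finset.mem_Ioi.2 <| by
          show m < t.val
          by_contra hle'
          refine hδ ((hM δ).2 (Or.inr (Or.inr ⟨hq1, t, ?_, by omega, by simp [hδe]⟩)))
          have : t.val ≠ 1 := fun h' => ht1 (Fin.ext (by rw [h', v1]))
          have : t.val ≠ 0 := fun h' => ht0 (Fin.ext h')
          omega
        rw [hδe]
        exact hz (Sum.inr (Sum.inr (Sum.inl (j, ⟨t, htW⟩))))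
      have hzH : ∀ ε : Fin (n + 1) →₀ ℕ, ε 0 = 0 → 1 ≤ ε two → ε (one n) < q → Finsupp.degree ε = q + 1 →
          coef hG (Sum.inr j1) ε φ = 0 := by
        intro ε e0 e2 e1 ed
        have hle : e two ≤ ε := Finsupp.single_le_iff.2 e2
        have he := congrArg Finsupp.degree (tsub_add_cancel_of_le hle)
        rw [map_add, Finsupp.degree_single, ed] at he
        have hm' : ε - e two ∈ Hs := by
          refine Finset.mem_erase.2 ⟨fun h => ?_, mem_noZero.2 ⟨by simp [e0], by omega⟩⟩
          have := DFunLike.congr_fun h (one n)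
          simp [Finsupp.single_apply, h21] at this
          omega
        rw [← add_tsub_cancel_of_le hle]
        exact hz (Sum.inr (Sum.inr (Sum.inr (Sum.inr ⟨_, hm'⟩))))
      by_cases hj : j = j1
      · subst hj
        by_cases h2 : 1 ≤ δ two
        · exact hzH δ h0 h2 (by omega) hd
        obtain ⟨l, hl2, hls⟩ : ∃ l : Fin m, bvar n l ≠ two ∧ δ + e (bvar n l) ∉ exps I := by
          by_cases hs : ∃ s : Fin (n + 1), 2 ≤ s.val ∧ s.val ≤ m ∧ 1 ≤ δ s
          · obtain ⟨s, hs2, hsm, hs⟩ := hs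
            have hb : bvar n (⟨s.val - 1, by omega⟩ : Fin m) = s :=
              Fin.ext (by rw [val_bvar hmn]; show s.val - 1 + 1 = s.val; omega)
            have hs1 : s ≠ one n := fun h => by rw [h, v1] at hs2; omega
            have hs0 : s ≠ 0 := fun h => by simp [h] at hs2
            refine ⟨⟨s.val - 1, by omega⟩, fun h => h2 (by rw [← h, hb]; exact hs), ?_⟩
            rw [hb]
            exact std hq hm2 hmn hG (by simp [Finsupp.single_apply, h0, hs0])
              (by simp [Finsupp.single_apply, hs1]; omega)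
          · have hb : bvar n (⟨0, by omega⟩ : Fin m) = one n := rfl
            refine ⟨⟨0, by omega⟩, by rw [hb]; exact h21.symm, ?_⟩
            rw [hb]
            refine std' hq hm2 hmn hG (by simp [Finsupp.single_apply, h0, h10]) (by simp; omega) fun s hs2 hsm => ?_
            have h1s : one n ≠ s := fun h => by rw [← h, v1] at hs2; omega
            have hsz : δ s = 0 := by by_contra h; exact hs ⟨s, hs2, hsm, Nat.one_le_iff_ne_zero.2 h⟩
            simp [Finsupp.single_apply, h1s, hsz]
        refine rel_zero hG φ (u := e (bvar n l)) (w := e two) (j := Sum.inr l) ?_ hls ?_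
        · rw [G_inr, G_inr]; abel
        · intro h
          have := h two
          simp [Finsupp.single_apply, hl2] at this
          omega
      · have hj2 : bvar n j ≠ two := fun h => hj (hbinj _ _ h)
        refine rel_shift hG φ (u := e two) (w := e (bvar n j)) (j := Sum.inr j1) ?_ ?_ fun hle => ?_
        · rw [G_inr, G_inr]; abel
        · exact std hq hm2 hmn hG (by simp [Finsupp.single_apply, h0, h20]) (by simp [Finsupp.single_apply, h21]; omega)
        · refine hzH _ ?_ ?_ ?_ ?_
          · simp [Finsupp.single_apply, h0, h20]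
          · simp [Finsupp.single_apply, hj2]
          · simp [Finsupp.single_apply, h21]; omega
          · have := congrArg Finsupp.degree (tsub_add_cancel_of_le hle)
            simp only [map_add, Finsupp.degree_single, hd] at this
            omega
  · -- realisation
    rintro (i | ⟨x, hx⟩ | ⟨j, t, ht⟩ | j | ⟨h, hh'⟩)
    · obtain ⟨φ, hφ, hv⟩ := exists_elem hG (Sum.inl i) (e 0 + e lst) (by simp [G_inl, map_add]) (by
        rintro (i' | j) hi'
        · have hii : i' ≠ i := fun h => hi' (h ▸ rfl)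
          refine ⟨i'.castSucc, ?_, ?_⟩
          · have hne : i.castSucc ≠ i'.castSucc := fun h => hii (Fin.castSucc_injective _ h).symm
            simp only [G_inl, Finsupp.add_apply, Finsupp.single_apply, hne, if_false, if_true]
            omega
          · by_cases hi0 : i'.castSucc = 0
            · exact (hM _).2 (Or.inl (Or.inl (by simp [hi0, Finsupp.single_apply, hl0])))
            · exact hx0mem _ i'.castSucc hi0 i'.2 (by simp [Finsupp.single_apply, hi0, hl0]) (by simp [Finsupp.single_apply])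
        · by_cases hi1 : i.castSucc = one n
          · refine ⟨bvar n j, ?_, hx0mem _ _ (hb0 j) (hbn j) (by simp [Finsupp.single_apply, hb0 j, hl0]) (by simp)⟩
            simp only [G_inl, G_inr, Finsupp.add_apply, Finsupp.single_apply, hi1, (hb0 j).symm, if_false, if_true]
            split_ifs <;> omega
          · refine ⟨one n, ?_, hx0mem _ _ h10 (by omega) (by simp [Finsupp.single_apply, h10, hl0]) (by simp)⟩
            simp only [G_inl, G_inr, Finsupp.add_apply, Finsupp.single_apply, hi1, h10.symm, if_false, if_true]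
            omega)
      refine ⟨φ, hφ, ?_, fun b' hb' _ => ?_⟩
      · exact (hv _ _ (ha 1)).trans (if_pos ⟨rfl, rfl⟩)
      rcases b' with i' | ⟨x, hx⟩ | ⟨j', t'⟩ | j' | h'
      · exact (hv _ _ (ha 1)).trans (if_neg fun hh => hb' (congrArg Sum.inl (Sum.inl_injective hh.1)))
      · refine (hv _ _ (hQ x hx).1).trans (if_neg fun hh => ?_)
        have := DFunLike.congr_fun hh.2 (0 : Fin (n + 1))
        simp [Finsupp.single_apply, hl0, κ, (hQ x hx).2] at this
      · exact (hv _ _ (hc _ t'.2)).trans (if_neg fun hh => Sum.inr_ne_inl hh.1)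
      · exact (hv _ _ (ha q)).trans (if_neg fun hh => Sum.inr_ne_inl hh.1)
      · exact (hv _ _ (hh _ h'.2)).trans (if_neg fun hh => Sum.inr_ne_inl hh.1)
    · obtain ⟨φ, hφ, h1, h2, h3, h4⟩ := hQhom x hx
      refine ⟨φ, hφ, h1, fun b' hb' _ => ?_⟩
      rcases b' with i' | ⟨y, hy⟩ | ⟨j', t'⟩ | j' | h'
      · exact h3 _ _ (ha 1) (by simp [κ, Finsupp.single_apply, hl0])
      · exact h2 y hy fun h => hb' (congrArg (fun z => Sum.inr (Sum.inl z)) (Subtype.ext h))
      · exact h4 _ _ (hc _ t'.2)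
      · exact h4 _ _ (ha q)
      · exact h4 _ _ (hh _ h'.2)
    · have hδ0 : (Finsupp.single (one n) q + e t) 0 = 0 := by simp [Finsupp.single_apply, h10, (hW0 t ht).1]
      obtain ⟨φ, hφ, hv⟩ := exists_elem hG (Sum.inr j) (Finsupp.single (one n) q + e t)
        (by simp [G_inr, map_add]) (by
        rintro (i | j') hj'
        · refine ⟨0, by simp [G_inl, G_inr, Finsupp.single_apply, h10, hb0 j],
            hx0mem _ (one n) h10 (by omega) (by simp) (by simp; omega)⟩
        · have hjj : bvar n j ≠ bvar n j' := fun h => hj' (congrArg Sum.inr (hbinj _ _ h).symm)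
          refine ⟨bvar n j', ?_, ?_⟩
          · simp [G_inr, Finsupp.single_apply, hjj]
          · by_cases hb : bvar n j' = one n
            · exact (hM _).2 (Or.inr (Or.inl (by simp [hb])))
            · exact (hM _).2 (Or.inr (Or.inr ⟨by simp; omega, bvar n j', hb1 _ hb, hbm j', by simp⟩)))
      refine ⟨φ, hφ, ?_, fun b' hb' _ => ?_⟩
      · exact (hv _ _ (hc t ht)).trans (if_pos ⟨rfl, rfl⟩)
      rcases b' with i' | ⟨y, hy⟩ | ⟨j', t'⟩ | j' | h'
      · exact (hv _ _ (ha 1)).trans (if_neg fun hh => Sum.inl_ne_inr hh.1)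
      · exact (hv _ _ (hQ y hy).1).trans (if_neg fun hh => Sum.inl_ne_inr hh.1)
      · refine (hv _ _ (hc _ t'.2)).trans (if_neg fun hh => hb' ?_)
        obtain rfl : j' = j := Sum.inr_injective hh.1
        rw [show t' = ⟨t, ht⟩ from Subtype.ext (single_one_injective (add_left_cancel hh.2)).symm]
      · refine (hv _ _ (ha q)).trans (if_neg fun hh => ?_)
        have := DFunLike.congr_fun hh.2 (0 : Fin (n + 1))
        simp [κ, Finsupp.single_apply, hl0, h10, (hW0 t ht).1] at this
      · refine (hv _ _ (hh _ h'.2)).trans (if_neg fun hh => ?_)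
        have := DFunLike.congr_fun hh.2 (one n)
        simp [κ, Finsupp.single_apply, h21, (hW0 t ht).2] at this
        have := (hHs _ h'.2).2.2
        omega
    · obtain ⟨φ, hφ, hv⟩ := exists_elem hG (Sum.inr j) (e 0 + Finsupp.single lst q)
        (by simp [G_inr, map_add]; omega) (by
        rintro (i | j') hj'
        · refine ⟨0, by simp [G_inl, G_inr, Finsupp.single_apply, h10, hb0 j],
            (hM _).2 (Or.inl (Or.inl (by simp [Finsupp.single_apply, hl0])))⟩
        · have hjj : bvar n j ≠ bvar n j' := fun h => hj' (congrArg Sum.inr (hbinj _ _ h).symm)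
          refine ⟨bvar n j', by simp [G_inr, Finsupp.single_apply, hjj],
            hx0mem _ _ (hb0 j') (hbn j') (by simp [Finsupp.single_apply, hb0 j', hl0]) (by simp)⟩)
      refine ⟨φ, hφ, ?_, fun b' hb' _ => ?_⟩
      · exact (hv _ _ (ha q)).trans (if_pos ⟨rfl, rfl⟩)
      rcases b' with i' | ⟨y, hy⟩ | ⟨j', t'⟩ | j' | h'
      · exact (hv _ _ (ha 1)).trans (if_neg fun hh => Sum.inl_ne_inr hh.1)
      · exact (hv _ _ (hQ y hy).1).trans (if_neg fun hh => Sum.inl_ne_inr hh.1)
      · refine (hv _ _ (hc _ t'.2)).trans (if_neg fun hh => ?_)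
        have := DFunLike.congr_fun hh.2 (0 : Fin (n + 1))
        simp [κ, Finsupp.single_apply, hl0, h10, (hW0 _ t'.2).1] at this
      · exact (hv _ _ (ha q)).trans (if_neg fun hh => hb' (by rw [Sum.inr_injective hh.1]))
      · refine (hv _ _ (hh _ h'.2)).trans (if_neg fun hh => ?_)
        have := DFunLike.congr_fun hh.2 (0 : Fin (n + 1))
        simp [κ, Finsupp.single_apply, hl0, h20, (hHs _ h'.2).1] at this
    · obtain ⟨h0, hhd, hh1⟩ := hHs h hh'
      obtain ⟨φ, hφ, hv⟩ := exists_block hG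
        (fun x => ∃ j : Fin m, (bvar n j = one n → h (one n) + 1 < q) ∧ x = Sum.inr j)
        (Finsupp.single (one n) q) h (by simp [hhd]) (by rintro _ ⟨j, -, rfl⟩; rw [G_inr]; exact le_self_add) (by
        rintro _ x ⟨j, hj, rfl⟩ hx
        have hbj := hb0 j
        rcases x with i | j'
        · refine hx0mem _ (bvar n j) hbj (hbn j) ?_ ?_
          · simp [G_inl, G_inr, Finsupp.single_apply, h10, hbj]
            omega
          · simp only [Finsupp.add_apply, Finsupp.tsub_apply, Finsupp.sup_apply, G_inr, Finsupp.single_apply, if_true]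
            refine le_trans ?_ le_self_add
            refine le_trans ?_ (tsub_le_tsub_right le_sup_left _)
            split_ifs <;> omega
        · have hb' : bvar n j' = one n ∧ ¬ h (one n) + 1 < q := by
            by_contra hh
            exact hx ⟨j', fun e => by by_contra h'; exact hh ⟨e, h'⟩, rfl⟩
          have hbj1 : bvar n j ≠ one n := fun e => hb'.2 (hj e)
          refine (hM _).2 (Or.inr (Or.inr ⟨?_, bvar n j, hb1 _ hbj1, hbm j, ?_⟩))
          · simp [G_inr, Finsupp.single_apply, hb'.1, hbj1]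
            omega
          · simp [G_inr, Finsupp.single_apply, hb'.1, hbj1, hbj1.symm])
      refine ⟨φ, hφ, ?_, fun b' hb' _ => ?_⟩
      · refine (hv _ _ (hh h hh')).trans (if_pos ⟨⟨j1, fun e => absurd e h21, rfl⟩, ?_⟩)
        simp only [κ, Sum.elim_inr]
        rw [G_inr, add_tsub_cancel_left]
      rcases b' with i' | ⟨y, hy⟩ | ⟨j', t'⟩ | j' | h'
      · exact (hv _ _ (ha 1)).trans (if_neg fun hh => by obtain ⟨j, -, e⟩ := hh.1; exact Sum.inl_ne_inr e)
      · exact (hv _ _ (hQ y hy).1).trans (if_neg fun hh => by obtain ⟨j, -, e⟩ := hh.1; exact Sum.inl_ne_inr e)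
      · refine (hv _ _ (hc _ t'.2)).trans (if_neg fun hh => ?_)
        obtain ⟨⟨j, hj, e⟩, he⟩ := hh
        obtain rfl : j' = j := Sum.inr_injective e
        simp only [κ, Sum.elim_inr, Sum.elim_inl] at he
        rw [G_inr, add_tsub_cancel_left] at he
        have := DFunLike.congr_fun he (one n)
        simp only [Finsupp.add_apply, Finsupp.single_apply, if_true, (hW0 _ t'.2).2, if_false] at this
        by_cases hb : bvar n j' = one n
        · have := hj hb; rw [if_pos hb] at *; omega
        · rw [if_neg hb] at this; omega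
      · refine (hv _ _ (ha q)).trans (if_neg fun hh => ?_)
        obtain ⟨⟨j, -, e⟩, he⟩ := hh
        obtain rfl : j' = j := Sum.inr_injective e
        simp only [κ, Sum.elim_inr, Sum.elim_inl] at he
        rw [G_inr, add_tsub_cancel_left] at he
        have := DFunLike.congr_fun he (0 : Fin (n + 1))
        simp [Finsupp.single_apply, hb0 j', h0, hl0] at this
      · refine (hv _ _ (hh _ h'.2)).trans (if_neg fun hh => hb' ?_)
        have he := hh.2
        simp only [κ, Sum.elim_inr] at he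
        rw [G_inr, add_tsub_cancel_left] at he
        rw [show h' = ⟨h, hh'⟩ from Subtype.ext (add_left_cancel he).symm]

end Groth.Agent.H27Hilb0.TwoBlock
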