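/-
The tangent space dimensions at the two-block monomial ideals.
-/
import Groth.Agent.H27Hilb0.TwoBlock

set_option autoImplicit false

open MvPolynomial W4c1hilbpn

namespace Groth.Agent.H27Hilb0.TwoBlock

open H25Hilb
open scoped Classical

variable {k : Type*} [Field k] {n q m : ℕ} {I : Ideal (MvPolynomial (Fin (n + 1)) k)}

theorem std_add (hq : 1 ≤ q) (hm2 : 2 ≤ m) (hmn : m < n) (hG : IsGen I (G n q m)) {δ : Fin (n + 1) →₀ ℕ}
    (h0 : δ 0 = 0) (hδ : δ ∉ exps I) {l : Fin (n + 1)} (hl : m < l.val) : δ + e l ∉ exps I := by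
  have v1 : (one n).val = 1 := val_one (by omega)
  have hl0 : l ≠ 0 := fun h => by simp [h] at hl
  have hl1 : l ≠ one n := fun h => by rw [h, v1] at hl; omega
  by_cases h1 : δ (one n) < q
  · exact std hq hm2 hmn hG (by simp [h0, hl0]) (by simp [hl1]; omega)
  · refine std' hq hm2 hmn hG (by simp [h0, hl0]) ?_ fun s hs2 hsm => ?_
    · simp [hl1]
      exact Nat.not_lt.1 fun h => hδ ((mem_iff hq hm2 hmn hG δ).2 (Or.inr (Or.inl h)))
    · have : l ≠ s := fun h => by rw [h] at hl; omega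
      have hs : δ s = 0 := by
        by_contra h
        exact hδ ((mem_iff hq hm2 hmn hG δ).2 (Or.inr (Or.inr ⟨by omega, s, hs2, hsm, Nat.one_le_iff_ne_zero.2 h⟩)))
      simp [hs, this.symm]

theorem ite_iff {P Q : Prop} {dP : Decidable P} {dQ : Decidable Q} (h : P ↔ Q) :
    @ite k P dP 1 0 = @ite k Q dQ 1 0 := by
  by_cases hp : P
  · rw [if_pos hp, if_pos (h.1 hp)]
  · rw [if_neg hp, if_neg fun hh => hp (h.2 hh)]

/-- The tangent vector replacing `x₀` by a variable on a block of generators. -/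
theorem exists_L (hq : 1 ≤ q) (hm2 : 2 ≤ m) (hmn : m < n) (hG : IsGen I (G n q m)) (R : Fin n → Prop) (t : Fin n)
    (hR : ∀ i, R i → i.val ≠ 0) (hc : ∀ i i', R i → ¬ R i' → i'.val ≠ 0 → e i.castSucc + e i'.castSucc ∈ exps I) :
    ∃ φ ∈ deg0 I,
      (∀ i δ, δ ∉ exps I → coef hG (Sum.inl i) δ φ = if R i ∧ e i.castSucc + e t.succ = δ then 1 else 0) ∧
      (∀ i δ, δ ∉ exps I → δ 0 ≠ 0 → coef hG (Sum.inl i) δ φ = 0) ∧
      ∀ j δ, δ ∉ exps I → coef hG (Sum.inr j) δ φ = 0 := by
  have v1 : (one n).val = 1 := val_one (by omega)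
  have h10 : one n ≠ 0 := fun h => by simp [h] at v1
  have hi0 : ∀ i, R i → i.castSucc ≠ 0 := fun i hi h => hR i hi (congrArg Fin.val h)
  obtain ⟨φ, hφ, hv⟩ := exists_block hG (fun x => ∃ i, R i ∧ x = Sum.inl i) (e 0) (e t.succ)
    (by simp) (by rintro _ ⟨i, -, rfl⟩; rw [G_inl]; exact le_self_add) (by
    rintro _ x ⟨i, hi, rfl⟩ hx
    rcases x with i' | j
    · have hni : ¬ R i' := fun h => hx ⟨i', h, rfl⟩
      by_cases h0 : i'.val = 0
      · have hc0 : i'.castSucc = 0 := Fin.ext h0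
        refine (mem_iff hq hm2 hmn hG _).2 (Or.inl (Or.inr ⟨?_, i.castSucc, hi0 i hi, i.2, ?_⟩))
        · simp [G_inl, hc0, hi0 i hi, Finsupp.single_apply]
        · simp [G_inl, hc0, hi0 i hi, (hi0 i hi).symm, Finsupp.single_apply]
      · refine exps_of_le (hc i i' hi hni h0) fun s => ?_
        have hc0 : i'.castSucc ≠ 0 := fun h => h0 (congrArg Fin.val h)
        have hne : i.castSucc ≠ i'.castSucc := fun h => hni (Fin.castSucc_injective _ h ▸ hi)
        simp only [G_inl, Finsupp.add_apply, Finsupp.tsub_apply, Finsupp.sup_apply, Finsupp.single_apply]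
        refine le_trans ?_ le_self_add
        rcases eq_or_ne s 0 with rfl | hs
        · simp [hi0 i hi, hc0]
        · simp only [Ne.symm hs, if_false, zero_add, tsub_zero]
          have h1 := le_sup_left (a := if i.castSucc = s then 1 else 0) (b := if i'.castSucc = s then 1 else 0)
          have h2 := le_sup_right (a := if i.castSucc = s then 1 else 0) (b := if i'.castSucc = s then 1 else 0)
          split_ifs at h1 h2 ⊢ with ha hb <;> subst_vars <;> first | exact absurd rfl hne | omega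
    · refine exps_of_le (hG.mem (Sum.inr j)) fun s => ?_
      simp only [Finsupp.add_apply, Finsupp.tsub_apply, Finsupp.sup_apply]
      refine le_trans ?_ le_self_add
      rcases eq_or_ne s 0 with rfl | hs
      · have hb : bvar n j ≠ 0 := fun h => by
          have := val_bvar hmn j; simp [h] at this
        simp [G_inr, h10, hb]
      · rw [Finsupp.single_eq_of_ne hs, tsub_zero]
        exact le_sup_right)
  refine ⟨φ, hφ, fun i δ hδ => ?_, fun i δ hδ h0 => ?_, fun j δ hδ => ?_⟩
  · refine (hv _ _ hδ).trans (ite_iff ⟨?_, ?_⟩)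
    · rintro ⟨⟨i', hi', he⟩, h⟩
      obtain rfl : i = i' := Sum.inl_injective he
      rw [G_inl, add_tsub_cancel_left] at h
      exact ⟨hi', h⟩
    · rintro ⟨hi, h⟩
      exact ⟨⟨i, hi, rfl⟩, by rw [G_inl, add_tsub_cancel_left]; exact h⟩
  · refine (hv _ _ hδ).trans (if_neg ?_)
    rintro ⟨⟨i', hi', he⟩, h⟩
    obtain rfl : i = i' := Sum.inl_injective he
    rw [G_inl, add_tsub_cancel_left] at h
    exact h0 (by rw [← h]; simp [hi0 i hi', Fin.succ_ne_zero])
  · exact (hv _ _ hδ).trans (if_neg fun h => by obtain ⟨i, -, e⟩ := h.1; exact Sum.inr_ne_inl e)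

/-- The tangent vector `x₀xᵢ ↦ x₁x_t` when `q = 1`. -/
theorem exists_C (hm2 : 2 ≤ m) (hmn : m < n) (hG : IsGen I (G n 1 m)) (i : Fin n) (t : Fin (n + 1)) (ht : m < t.val)
    (hl : ∀ l : Fin n, l ≠ i → l.val ≤ m) :
    ∃ φ ∈ deg0 I,
      (∀ i' δ, δ ∉ exps I → coef hG (Sum.inl i') δ φ = if i' = i ∧ e (one n) + e t = δ then 1 else 0) ∧
      (∀ i' δ, δ ∉ exps I → δ 0 ≠ 0 → coef hG (Sum.inl i') δ φ = 0) ∧
      ∀ j δ, δ ∉ exps I → coef hG (Sum.inr j) δ φ = 0 := by
  have hM := mem_iff le_rfl hm2 hmn hG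
  have v1 : (one n).val = 1 := val_one (by omega)
  have h10 : one n ≠ 0 := fun h => by simp [h] at v1
  have ht0 : t ≠ 0 := fun h => by simp [h] at ht
  have hx1 : ∀ l : Fin (n + 1), l ≠ 0 → l.val ≤ m → e (one n) + e t + e l ∈ exps I := by
    intro l hl0 hlm
    by_cases hl1 : l = one n
    · exact (hM _).2 (Or.inr (Or.inl (by simp [hl1])))
    · have : l.val ≠ 0 := fun h => hl0 (Fin.ext h)
      have : l.val ≠ 1 := fun h => hl1 (Fin.ext (by rw [h, v1]))
      exact (hM _).2 (Or.inr (Or.inr ⟨by simp; omega, l, by omega, hlm, by simp⟩))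
  obtain ⟨φ, hφ, hv⟩ := exists_elem hG (Sum.inl i) (e (one n) + e t) (by simp [G_inl, map_add]) (by
    rintro (i' | j) hi'
    · have hii : i' ≠ i := fun h => hi' (h ▸ rfl)
      refine ⟨i'.castSucc, ?_, ?_⟩
      · have hne : i.castSucc ≠ i'.castSucc := fun h => hii (Fin.castSucc_injective _ h).symm
        simp only [G_inl, Finsupp.add_apply, Finsupp.single_apply, hne, if_false, if_true]
        omega
      · by_cases hi0 : i'.castSucc = 0
        · exact (hM _).2 (Or.inl (Or.inr ⟨by simp [hi0], one n, h10, by omega, by simp; omega⟩))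
        · exact hx1 _ hi0 (hl i' hii)
    · have hb0 : bvar n j ≠ 0 := fun h => by have := val_bvar hmn j; simp [h] at this
      by_cases hib : i.castSucc = one n
      · refine ⟨bvar n j, ?_, hx1 _ hb0 (by rw [val_bvar hmn]; omega)⟩
        simp only [G_inl, G_inr, Finsupp.add_apply, Finsupp.single_apply, hib, hb0.symm, if_false, if_true]
        split_ifs <;> omega
      · refine ⟨one n, ?_, hx1 _ h10 (by omega)⟩
        simp only [G_inl, G_inr, Finsupp.add_apply, Finsupp.single_apply, hib, h10.symm, if_false, if_true]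
        omega)
  refine ⟨φ, hφ, fun i' δ hδ => (hv _ _ hδ).trans (ite_iff (and_congr_left' Sum.inl_injective.eq_iff)),
    fun i' δ hδ h0 => (hv _ _ hδ).trans (if_neg fun h => h0 ?_),
    fun j δ hδ => (hv _ _ hδ).trans (if_neg fun h => Sum.inr_ne_inl h.1)⟩
  rw [← h.2]; simp [h10, ht0]

/-- The generator `x₀xₙ₋₁`. -/
def nm1 (hmn : m + 2 ≤ n) : Fin n := ⟨n - 1, by omega⟩

/-- The coordinates of the translations by a variable. -/
noncomputable def QL (hmn : m + 2 ≤ n) : Finset (Fin n × (Fin (n + 1) →₀ ℕ)) :=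
  Finset.univ.image fun t : Fin n => (nm1 hmn, e (nm1 hmn).castSucc + e t.succ)

section far

variable (hq : 1 ≤ q) (hm2 : 2 ≤ m) (hmn : m + 2 ≤ n) (hG : IsGen I (G n q m))

omit hq hm2 in
theorem card_QL (hmn : m + 2 ≤ n) : (QL (n := n) hmn).card = n := by
  rw [QL, Finset.card_image_of_injective _ fun t t' h =>
    Fin.succ_injective _ (single_one_injective (add_left_cancel (congrArg Prod.snd h))), Finset.card_univ, Fintype.card_fin]

include hq hm2 hG in
theorem QL_std : ∀ x ∈ QL (n := n) hmn, x.2 ∉ exps I ∧ x.2 0 = 0 := by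
  intro x hx
  obtain ⟨t, -, rfl⟩ := Finset.mem_image.1 hx
  have v1 : (one n).val = 1 := val_one (by omega)
  have hv : (nm1 hmn).castSucc.val = n - 1 := rfl
  have h0 : (nm1 hmn).castSucc ≠ 0 := fun h => by rw [h] at hv; simp at hv; omega
  have h10 : one n ≠ 0 := fun h => by simp [h] at v1
  refine ⟨?_, by simp [h0, Fin.succ_ne_zero]⟩
  refine (add_comm (e t.succ) _) ▸ std_add hq hm2 (by omega) hG (by simp [Fin.succ_ne_zero]) (fun h => ?_) (by omega)
  obtain ⟨x, hx⟩ := (hG.iff _).1 h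
  have := Finsupp.degree_mono hx
  rcases x with i | j <;> simp [G_inl, G_inr, map_add] at this
  omega

include hq hm2 in
theorem QL_inj (φ : Tgt I) (hz : ∀ x ∈ QL (n := n) hmn, coef hG (Sum.inl x.1) x.2 φ = 0)
    (hex : ∀ δ, δ 0 = 0 → δ ∉ exps I → Finsupp.degree δ = 2 → δ (nm1 hmn).castSucc = 0 → q ≤ δ (one n) →
      m + 2 = n → coef hG (Sum.inl (nm1 hmn)) δ φ = 0) :
    ∀ i δ, δ 0 = 0 → δ ∉ exps I → Finsupp.degree δ = 2 → coef hG (Sum.inl i) δ φ = 0 := by
  have v1 : (one n).val = 1 := val_one (by omega)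
  set a : Fin (n + 1) := (nm1 hmn).castSucc with ha
  have va : a.val = n - 1 := rfl
  have ha0 : a ≠ 0 := fun h => by rw [h] at va; simp at va; omega
  have hzL : ∀ ε, ε 0 = 0 → 1 ≤ ε a → Finsupp.degree ε = 2 → coef hG (Sum.inl (nm1 hmn)) ε φ = 0 := by
    intro ε e0 ea ed
    obtain ⟨s, rfl⟩ := exists_eq_pair ed ea
    obtain ⟨t, rfl⟩ := Fin.exists_succ_eq.2 (show s ≠ 0 from fun h => by simp [h] at e0)
    exact hz (nm1 hmn, e a + e t.succ) (Finset.mem_image_of_mem _ (Finset.mem_univ t))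
  intro i δ h0 hδ hd
  by_cases hi : i = nm1 hmn
  · subst hi
    by_cases hda : 1 ≤ δ a
    · exact hzL δ h0 hda hd
    have key : ∀ l : Fin n, l ≠ nm1 hmn → δ + e l.castSucc ∉ exps I → coef hG (Sum.inl (nm1 hmn)) δ φ = 0 := by
      intro l hl hls
      refine rel_zero hG φ (u := e l.castSucc) (w := e a) (j := Sum.inl l) ?_ hls ?_
      · rw [G_inl, G_inl]; abel
      · intro h
        have hne : l.castSucc ≠ a := fun h' => hl (Fin.castSucc_injective _ h')
        have := h a
        simp [hne] at this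
        omega
    by_cases hq1 : δ (one n) < q
    · refine key ⟨2, by omega⟩ (fun h => by have := congrArg Fin.val h; simp [nm1] at this; omega) ?_
      set s : Fin (n + 1) := (⟨2, by omega⟩ : Fin n).castSucc with hs
      have vs : s.val = 2 := rfl
      have hs0 : s ≠ 0 := fun h => by simp [h] at vs
      have hs1 : s ≠ one n := fun h => by rw [h, v1] at vs; omega
      exact std hq hm2 (by omega) hG (by simp [h0, hs0]) (by simp [hs1]; omega)
    · by_cases hr : m + 2 = n
      · exact hex δ h0 hδ hd (by omega) (by omega) hr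
      · exact key ⟨n - 2, by omega⟩ (fun h => by have := congrArg Fin.val h; simp [nm1] at this; omega)
          (std_add hq hm2 (by omega) hG h0 hδ (by show m < n - 2; omega))
  · have hia : i.castSucc ≠ a := fun h => hi (Fin.castSucc_injective _ h)
    refine rel_shift hG φ (u := e a) (w := e i.castSucc) (j := Sum.inl (nm1 hmn)) ?_ ?_ fun hle => ?_
    · rw [G_inl, G_inl]; abel
    · exact std_add hq hm2 (by omega) hG h0 hδ (by omega)
    · refine hzL _ (by simp [h0, ha0]) (by simp [hia]) ?_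
      have := congrArg Finsupp.degree (tsub_add_cancel_of_le hle)
      simp only [map_add, Finsupp.degree_single, hd] at this
      omega

include hq hm2 in
theorem QL_hom : ∀ x ∈ QL (n := n) hmn, ∃ φ ∈ deg0 I, coef hG (Sum.inl x.1) x.2 φ = 1 ∧
    (∀ i δ, δ ∉ exps I → δ (nm1 hmn).castSucc = 0 → i = nm1 hmn → coef hG (Sum.inl i) δ φ = 0) ∧
    (∀ y ∈ QL (n := n) hmn, y ≠ x → coef hG (Sum.inl y.1) y.2 φ = 0) ∧
    (∀ i δ, δ ∉ exps I → δ 0 ≠ 0 → coef hG (Sum.inl i) δ φ = 0) ∧
    ∀ j δ, δ ∉ exps I → coef hG (Sum.inr j) δ φ = 0 := by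
  intro x hx
  have hstd := QL_std hq hm2 hmn hG
  obtain ⟨t, -, rfl⟩ := Finset.mem_image.1 hx
  obtain ⟨φ, hφ, hA, h0, hB⟩ := exists_L hq hm2 (by omega) hG (fun i => i.val ≠ 0) t (fun i hi => hi)
    (fun i i' _ h h' => absurd h' h)
  refine ⟨φ, hφ, ?_, fun i δ hδ hda hi => ?_, fun y hy hne => ?_, h0, hB⟩
  · exact (hA _ _ (hstd _ hx).1).trans (if_pos ⟨by show n - 1 ≠ 0; omega, rfl⟩)
  · subst hi
    refine (hA _ _ hδ).trans (if_neg fun h => ?_)
    rw [← h.2] at hda
    simp at hda
  · obtain ⟨t', -, rfl⟩ := Finset.mem_image.1 hy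
    exact (hA _ _ (hstd _ hy).1).trans (if_neg fun h => hne (by rw [h.2]))

include hq hm2 hmn hG in
theorem finrank_far (hcase : m + 3 ≤ n ∨ 3 ≤ q) :
    Module.finrank k (deg0 I) = n + n + m * (n - m) + m + (Nat.choose (n + q - 1) (n - 1) - 1) := by
  refine (finrank_deg0 hq hm2 (by omega) hG _ (QL_std hq hm2 hmn hG)
    (fun φ hz => QL_inj hq hm2 hmn hG φ hz fun δ _ _ hd _ hq1 hr => ?_) fun x hx => ?_).trans (by rw [card_QL hmn])
  · have := Finsupp.le_degree (one n) δ; omega
  · obtain ⟨φ, hφ, h1, -, h2, h3, h4⟩ := QL_hom hq hm2 hmn hG x hx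
    exact ⟨φ, hφ, h1, h2, h3, h4⟩

end far

theorem finrank_n21 (hm2 : 2 ≤ m) (hr : m + 2 = n) (hG : IsGen I (G n 1 m)) :
    Module.finrank k (deg0 I) = n + (n + 1) + m * (n - m) + m + (Nat.choose (n + 1 - 1) (n - 1) - 1) := by
  have hmn : m + 2 ≤ n := hr.le
  have v1 : (one n).val = 1 := val_one (by omega)
  set a : Fin (n + 1) := (nm1 hmn).castSucc with ha
  have va : a.val = n - 1 := rfl
  have hal : Fin.last n ≠ a := fun h => by have := congrArg Fin.val h; simp at this; omega
  have h1a : one n ≠ a := fun h => by rw [← h, v1] at va; omega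
  have h1l : one n ≠ Fin.last n := fun h => by have := congrArg Fin.val h; simp at this; omega
  have h10 : one n ≠ 0 := fun h => by simp [h] at v1
  have hl0 : Fin.last n ≠ 0 := fun h => by have := congrArg Fin.val h; simp at this; omega
  let x₀ : Fin n × (Fin (n + 1) →₀ ℕ) := (nm1 hmn, e (one n) + e (Fin.last n))
  have hx₀ : x₀.2 ∉ exps I :=
    std' le_rfl hm2 (by omega) hG (by simp [x₀, h10, hl0]) (by simp [x₀, h1l.symm]) fun s hs2 hsm => by
      have h1 : one n ≠ s := fun h => by rw [← h, v1] at hs2; omega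
      have h2 : Fin.last n ≠ s := fun h => by rw [← h] at hsm; simp at hsm; omega
      simp [x₀, h1.symm, h2.symm]
  have hx₀a : x₀.2 a = 0 := by simp [x₀, h1a.symm, hal.symm]
  have hnot : x₀ ∉ QL (n := n) hmn := fun h => by
    obtain ⟨t, -, h⟩ := Finset.mem_image.1 h
    have := congrArg (fun p : Fin n × (Fin (n + 1) →₀ ℕ) => p.2 a) h
    simp only [hx₀a] at this
    simp [← ha] at this
  refine (finrank_deg0 le_rfl hm2 (by omega) hG (insert x₀ (QL hmn)) ?_ ?_ ?_).trans
    (by rw [Finset.card_insert_of_notMem hnot, card_QL hmn])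
  · intro x hx
    rcases Finset.mem_insert.1 hx with rfl | hx
    · exact ⟨hx₀, by simp [x₀, h10, hl0]⟩
    · exact QL_std le_rfl hm2 hmn hG x hx
  · intro φ hz
    refine QL_inj le_rfl hm2 hmn hG φ (fun x hx => hz x (Finset.mem_insert_of_mem hx)) fun δ h0 hδ hd hda hq1 _ => ?_
    obtain ⟨s, rfl⟩ := exists_eq_pair hd hq1
    have hs : s = Fin.last n := by
      have hs0 : s ≠ 0 := fun h => by simp [h] at h0
      have hs1 : s ≠ one n := fun h => hδ ((mem_iff le_rfl hm2 (by omega) hG _).2 (Or.inr (Or.inl (by simp [h]))))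
      have hsa : s ≠ a := fun h => by simp [h, h1a, ← ha] at hda
      refine Fin.ext ?_
      simp only [Fin.val_last]
      by_contra hne
      have := s.2
      have : s.val ≠ 0 := fun h => hs0 (Fin.ext h)
      have : s.val ≠ 1 := fun h => hs1 (Fin.ext (by rw [h, v1]))
      have : s.val ≠ n - 1 := fun h => hsa (Fin.ext (by rw [h, va]))
      exact hδ ((mem_iff le_rfl hm2 (by omega) hG _).2 (Or.inr (Or.inr ⟨by simp, s, by omega, by omega, by simp⟩)))
    rw [hs]
    exact hz x₀ (Finset.mem_insert_self _ _)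
  · intro x hx
    rcases Finset.mem_insert.1 hx with rfl | hx
    · obtain ⟨φ, hφ, hA, h3, h4⟩ := exists_C hm2 (by omega) hG (nm1 hmn) (Fin.last n) (by simp; omega) fun l hl => by
        have : l.val ≠ n - 1 := fun h => hl (Fin.ext h)
        omega
      refine ⟨φ, hφ, (hA _ _ hx₀).trans (if_pos ⟨rfl, rfl⟩), fun y hy hne => ?_, h3, h4⟩
      rcases Finset.mem_insert.1 hy with rfl | hy
      · exact absurd rfl hne
      · refine (hA _ _ (QL_std le_rfl hm2 hmn hG y hy).1).trans (if_neg fun h => hne (Prod.ext h.1 h.2.symm))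
    · obtain ⟨φ, hφ, h1, hx0', h2, h3, h4⟩ := QL_hom le_rfl hm2 hmn hG x hx
      refine ⟨φ, hφ, h1, fun y hy hne => ?_, h3, h4⟩
      rcases Finset.mem_insert.1 hy with rfl | hy
      · exact hx0' _ _ hx₀ hx₀a rfl
      · exact h2 y hy hne

theorem finrank_n11 (hm2 : 2 ≤ m) (hr : m + 1 = n) (hG : IsGen I (G n 1 m)) :
    Module.finrank k (deg0 I) = n + (n + (n - 1)) + m * (n - m) + m + (Nat.choose (n + 1 - 1) (n - 1) - 1) := by
  have hmn : m < n := by omega
  have v1 : (one n).val = 1 := val_one (by omega)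
  have h10 : one n ≠ 0 := fun h => by simp [h] at v1
  have hM := mem_iff le_rfl hm2 hmn hG
  set lst : Fin (n + 1) := Fin.last n with hlst
  have vlst : lst.val = n := rfl
  have hl0 : lst ≠ 0 := fun h => by simp [h] at vlst; omega
  have hl1 : lst ≠ one n := fun h => by rw [h, v1] at vlst; omega
  set tw : Fin n := ⟨2, by omega⟩ with htw
  set two : Fin (n + 1) := tw.castSucc with htwo
  have vtwo : two.val = 2 := rfl
  have h20 : two ≠ 0 := fun h => by simp [h] at vtwo
  have h21 : two ≠ one n := fun h => by rw [h, v1] at vtwo; omega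
  let Q1 : Finset (Fin n × (Fin (n + 1) →₀ ℕ)) := Finset.univ.image fun i => (i, e (one n) + e lst)
  let Q2 : Finset (Fin n × (Fin (n + 1) →₀ ℕ)) :=
    (Finset.univ.erase (⟨0, by omega⟩ : Fin n)).image fun t => (tw, e two + e t.succ)
  have hs1 : ∀ t : Fin n, t ∈ Finset.univ.erase (⟨0, by omega⟩ : Fin n) → t.succ ≠ one n := fun t ht h => by
    refine (Finset.mem_erase.1 ht).1 (Fin.ext ?_)
    have := congrArg Fin.val h
    rw [v1, Fin.val_succ] at this
    show t.val = 0
    omega
  have hc : e (one n) + e lst ∉ exps I :=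
    std' le_rfl hm2 hmn hG (by simp [h10, hl0]) (by simp [hl1.symm]) fun s hs2 hsm => by
      have h1 : one n ≠ s := fun h => by rw [← h, v1] at hs2; omega
      have h2 : lst ≠ s := fun h => by rw [← h, vlst] at hsm; omega
      simp [h1.symm, h2.symm]
  have hQ1 : ∀ x ∈ Q1, x.2 ∉ exps I ∧ x.2 0 = 0 ∧ x.2 = e (one n) + e lst := fun x hx => by
    obtain ⟨i, -, rfl⟩ := Finset.mem_image.1 hx
    exact ⟨hc, by simp [h10, hl0], rfl⟩
  have hQ2 : ∀ x ∈ Q2, x.2 ∉ exps I ∧ x.2 0 = 0 ∧ x.2 (one n) = 0 ∧ x.1 = tw := fun x hx => by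
    obtain ⟨t, ht, rfl⟩ := Finset.mem_image.1 hx
    refine ⟨std le_rfl hm2 hmn hG (by simp [h20, Fin.succ_ne_zero]) ?_, by simp [h20, Fin.succ_ne_zero],
      by simp [h21.symm, (hs1 t ht).symm], rfl⟩
    simp [h21.symm, (hs1 t ht).symm]
  have hdisj : Disjoint Q1 Q2 := Finset.disjoint_left.2 fun x h1 h2 => by
    have := (hQ2 x h2).2.2.1
    rw [(hQ1 x h1).2.2] at this
    simp at this
  refine (finrank_deg0 le_rfl hm2 hmn hG (Q1 ∪ Q2) ?_ ?_ ?_).trans ?_
  rotate_left 3
  · rw [Finset.card_union_of_disjoint hdisj, Finset.card_image_of_injective _ fun i i' h => congrArg Prod.fst h,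
      Finset.card_image_of_injective _ fun t t' h =>
        Fin.succ_injective _ (single_one_injective (add_left_cancel (congrArg Prod.snd h))),
      Finset.card_erase_of_mem (Finset.mem_univ _), Finset.card_univ, Fintype.card_fin]
  · intro x hx
    rcases Finset.mem_union.1 hx with hx | hx
    · exact ⟨(hQ1 x hx).1, (hQ1 x hx).2.1⟩
    · exact ⟨(hQ2 x hx).1, (hQ2 x hx).2.1⟩
  · intro φ hz
    have hzC : ∀ i ε, ε 0 = 0 → 1 ≤ ε (one n) → ε ∉ exps I → Finsupp.degree ε = 2 → coef hG (Sum.inl i) ε φ = 0 := by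
      intro i ε e0 e1 eδ ed
      obtain ⟨s, rfl⟩ := exists_eq_pair ed e1
      have hs : s = lst := by
        have hs0 : s ≠ 0 := fun h => by simp [h] at e0
        have hs1 : s ≠ one n := fun h => eδ ((hM _).2 (Or.inr (Or.inl (by simp [h]))))
        refine Fin.ext ?_
        rw [vlst]
        by_contra hne
        have := s.2
        have : s.val ≠ 0 := fun h => hs0 (Fin.ext h)
        have : s.val ≠ 1 := fun h => hs1 (Fin.ext (by rw [h, v1]))
        exact eδ ((hM _).2 (Or.inr (Or.inr ⟨by simp, s, by omega, by omega, by simp⟩)))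
      rw [hs]
      exact hz (i, e (one n) + e lst) (Finset.mem_union_left _ (Finset.mem_image_of_mem _ (Finset.mem_univ i)))
    have hzL : ∀ ε, ε 0 = 0 → 1 ≤ ε two → ε (one n) = 0 → Finsupp.degree ε = 2 → coef hG (Sum.inl tw) ε φ = 0 := by
      intro ε e0 e2 e1 ed
      obtain ⟨s, rfl⟩ := exists_eq_pair ed e2
      obtain ⟨t, rfl⟩ := Fin.exists_succ_eq.2 (show s ≠ 0 from fun h => by simp [h] at e0)
      refine hz (tw, e two + e t.succ) (Finset.mem_union_right _ (Finset.mem_image_of_mem _ (Finset.mem_erase.2 ⟨fun h => ?_, Finset.mem_univ _⟩)))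
      have h1 : t.succ = one n := Fin.ext (by rw [v1, Fin.val_succ, h])
      rw [h1] at e1
      simp at e1
    intro i δ h0 hδ hd
    by_cases hd1 : 1 ≤ δ (one n)
    · exact hzC i δ h0 hd1 hδ hd
    by_cases hi : i = tw
    · subst hi
      by_cases hd2 : 1 ≤ δ two
      · exact hzL δ h0 hd2 (by omega) hd
      obtain ⟨l, hl2, hls⟩ : ∃ l : Fin n, l.castSucc ≠ two ∧ δ + e l.castSucc ∉ exps I := by
        by_cases hs : ∃ s : Fin (n + 1), 2 ≤ s.val ∧ s.val ≤ m ∧ 1 ≤ δ s
        · obtain ⟨s, hs2, hsm, hs⟩ := hs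
          refine ⟨⟨s.val, by omega⟩, fun h => hd2 (by rw [← h]; exact hs), ?_⟩
          have hs1 : s ≠ one n := fun h => by rw [h, v1] at hs2; omega
          have hs0 : s ≠ 0 := fun h => by simp [h] at hs2
          rw [show (⟨s.val, by omega⟩ : Fin n).castSucc = s from Fin.ext rfl]
          exact std le_rfl hm2 hmn hG (by simp [h0, hs0]) (by simp [hs1.symm]; omega)
        · have hb : (⟨1, by omega⟩ : Fin n).castSucc = one n := Fin.ext (by rw [v1]; rfl)
          refine ⟨⟨1, by omega⟩, by rw [hb]; exact h21.symm, ?_⟩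
          rw [hb]
          refine std' le_rfl hm2 hmn hG (by simp [h0, h10]) (by simp; omega) fun s hs2 hsm => ?_
          have h1s : one n ≠ s := fun h => by rw [← h, v1] at hs2; omega
          have hsz : δ s = 0 := by by_contra h; exact hs ⟨s, hs2, hsm, Nat.one_le_iff_ne_zero.2 h⟩
          simp [h1s.symm, hsz]
      refine rel_zero hG φ (u := e l.castSucc) (w := e two) (j := Sum.inl l) ?_ hls ?_
      · rw [G_inl, G_inl]; abel
      · intro h
        have := h two
        simp [hl2] at this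
        omega
    · have hi2 : i.castSucc ≠ two := fun h => hi (Fin.castSucc_injective _ h)
      refine rel_shift hG φ (u := e two) (w := e i.castSucc) (j := Sum.inl tw) ?_ ?_ fun hle => ?_
      · rw [G_inl, G_inl]; abel
      · exact std le_rfl hm2 hmn hG (by simp [h0, h20]) (by simp [h21.symm]; omega)
      · refine hzL _ (by simp [h0, h20]) (by simp [hi2]) ?_ ?_
        · simp [h21.symm]; omega
        · have := congrArg Finsupp.degree (tsub_add_cancel_of_le hle)
          simp only [map_add, Finsupp.degree_single, hd] at this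
          omega
  · intro x hx
    rcases Finset.mem_union.1 hx with hx | hx
    · obtain ⟨i, -, rfl⟩ := Finset.mem_image.1 hx
      obtain ⟨φ, hφ, hA, h3, h4⟩ := exists_C hm2 hmn hG i lst (by omega) fun l _ => by omega
      refine ⟨φ, hφ, (hA _ _ hc).trans (if_pos ⟨rfl, rfl⟩), fun y hy hne => ?_, h3, h4⟩
      rcases Finset.mem_union.1 hy with hy | hy
      · exact (hA _ _ (hQ1 y hy).1).trans (if_neg fun h => hne (Prod.ext h.1 h.2.symm))
      · refine (hA _ _ (hQ2 y hy).1).trans (if_neg fun h => ?_)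
        have := (hQ2 y hy).2.2.1
        rw [← h.2] at this
        simp at this
    · obtain ⟨t, ht, rfl⟩ := Finset.mem_image.1 hx
      obtain ⟨φ, hφ, hA, h3, h4⟩ := exists_L le_rfl hm2 hmn hG (fun i => 2 ≤ i.val) t (fun i hi => by omega)
        fun i i' hi hi' h0 => by
          have hi'1 : i'.castSucc = one n := Fin.ext (by rw [v1]; show i'.val = 1; omega)
          have hne : i.castSucc ≠ one n := fun h => by
            have := congrArg Fin.val h; rw [v1] at this; simp at this; omega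
          refine (hM _).2 (Or.inr (Or.inr ⟨by simp [hi'1], i.castSucc, hi, ?_, by simp⟩))
          show i.val ≤ m
          omega
      refine ⟨φ, hφ, (hA _ _ (hQ2 _ hx).1).trans (if_pos ⟨le_rfl, rfl⟩), fun y hy hne => ?_, h3, h4⟩
      rcases Finset.mem_union.1 hy with hy | hy
      · refine (hA _ _ (hQ1 y hy).1).trans (if_neg ?_)
        rintro ⟨hi, h⟩
        rw [(hQ1 y hy).2.2] at h
        have hne' : y.1.castSucc ≠ one n := fun h' => by
          have := congrArg Fin.val h'; rw [v1] at this; simp at this; omega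
        have := DFunLike.congr_fun h (one n)
        simp [hne'.symm, (hs1 t ht).symm, hl1.symm] at this
      · obtain ⟨t', -, rfl⟩ := Finset.mem_image.1 hy
        exact (hA _ _ (hQ2 _ hy).1).trans (if_neg fun h => hne (by rw [← htwo] at h; rw [h.2]))

end Groth.Agent.H27Hilb0.TwoBlock

namespace Groth.Agent.H27Hilb0.TwoBlock

theorem isGen_span (k : Type*) [Field k] (n q m : ℕ) (hn : 1 ≤ n) (hm : m < n) :
    IsGen (Ideal.span ({f : MvPolynomial (Fin (n + 1)) k | ∃ i : Fin (n + 1), i.val + 1 ≤ n ∧ f = MvPolynomial.X 0 * MvPolynomial.X i} ∪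
      {f : MvPolynomial (Fin (n + 1)) k | ∃ i : Fin (n + 1), 1 ≤ i.val ∧ i.val ≤ m ∧ f = MvPolynomial.X 1 ^ q * MvPolynomial.X i}))
      (G n q m) := by
  have h1 : one n = (1 : Fin (n + 1)) := rfl
  have hA : ∀ i : Fin n, monomial (G n q m (Sum.inl i)) (1 : k) = X 0 * X i.castSucc := fun i => by
    simp [G_inl, X, monomial_mul]
  have hB : ∀ j : Fin m, monomial (G n q m (Sum.inr j)) (1 : k) = X 1 ^ q * X (bvar n j) := fun j => by
    rw [G_inr, h1, X_pow_eq_monomial, X, monomial_mul, one_mul]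
  have hgen : ({f : MvPolynomial (Fin (n + 1)) k | ∃ i : Fin (n + 1), i.val + 1 ≤ n ∧ f = MvPolynomial.X 0 * MvPolynomial.X i} ∪
      {f : MvPolynomial (Fin (n + 1)) k | ∃ i : Fin (n + 1), 1 ≤ i.val ∧ i.val ≤ m ∧ f = MvPolynomial.X 1 ^ q * MvPolynomial.X i}) =
      Set.range fun x => monomial (G n q m x) (1 : k) := by
    ext f
    constructor
    · rintro (⟨i, hi, rfl⟩ | ⟨i, hi1, him, rfl⟩)
      · exact ⟨Sum.inl ⟨i.val, by omega⟩, hA _⟩
      · refine ⟨Sum.inr ⟨i.val - 1, by omega⟩, (hB _).trans ?_⟩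
        rw [show bvar n (⟨i.val - 1, by omega⟩ : Fin m) = i from
          Fin.ext (by rw [val_bvar hm]; show i.val - 1 + 1 = i.val; omega)]
    · rintro ⟨i | j, rfl⟩
      · exact Or.inl ⟨i.castSucc, i.2, hA i⟩
      · exact Or.inr ⟨bvar n j, by rw [val_bvar hm]; omega, by rw [val_bvar hm]; omega, hB j⟩
  rw [hgen]
  exact IsGen.of_span (G n q m)

end Groth.Agent.H27Hilb0.TwoBlock
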