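/-
The ideal of two coordinate linear spaces meeting transversely and not spanning.
-/
import Groth.Agent.H27Hilb0.Core
import Groth.Agent.H27Hilb0.Fin

set_option autoImplicit false

open MvPolynomial W4c1hilbpn

namespace Groth.Agent.H27Hilb0.TwoPlanes

open H25Hilb
open scoped Classical

variable {k : Type*} [Field k] {n c d : ℕ} {I : Ideal (MvPolynomial (Fin (n + 1)) k)}

/-- The variables of the first space. -/
def av (n : ℕ) {c : ℕ} (i : Fin c) : Fin (n + 1) := Fin.ofNat (n + 1) i.val

/-- The variables of the second space. -/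
def bv (n : ℕ) {d : ℕ} (j : Fin d) : Fin (n + 1) := Fin.ofNat (n + 1) (n + 1 - d + j.val)

/-- The generators. -/
noncomputable def G (n c d : ℕ) : Fin c × Fin d → (Fin (n + 1) →₀ ℕ) := fun x => e (av n x.1) + e (bv n x.2)

theorem val_av (hc : c ≤ n) (i : Fin c) : (av n i).val = i.val := Nat.mod_eq_of_lt (by omega)

theorem val_bv (hd : d ≤ n) (j : Fin d) : (bv n j).val = n + 1 - d + j.val := Nat.mod_eq_of_lt (by omega)

theorem finrank_two_planes (hc : 2 ≤ c) (hd : 2 ≤ d) (hn : c + d ≤ n) (hG : IsGen I (G n c d)) :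
    Module.finrank k (deg0 I) = c * (n - c + 1) + d * (n - d + 1) := by
  have va : ∀ i : Fin c, (av n i).val = i.val := val_av (by omega)
  have vb : ∀ j : Fin d, (bv n j).val = n + 1 - d + j.val := val_bv (by omega)
  have ainj : ∀ i i' : Fin c, av n i = av n i' → i = i' := fun i i' h => Fin.ext (by rw [← va i, ← va i', h])
  have binj : ∀ j j' : Fin d, bv n j = bv n j' → j = j' := fun j j' h => Fin.ext (by
    have := congrArg Fin.val h; rw [vb, vb] at this; omega)
  have hab : ∀ (i : Fin c) (j : Fin d), av n i ≠ bv n j := fun i j h => by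
    have := congrArg Fin.val h; rw [va, vb] at this; omega
  have isA : ∀ s : Fin (n + 1), s.val < c → ∃ i, av n (c := c) i = s := fun s h => ⟨⟨s.val, h⟩, Fin.ext (va _)⟩
  have isB : ∀ s : Fin (n + 1), n + 1 ≤ s.val + d → ∃ j, bv n (d := d) j = s := fun s h =>
    ⟨⟨s.val + d - (n + 1), by omega⟩, Fin.ext (by rw [vb]; show n + 1 - d + (s.val + d - (n + 1)) = s.val; omega)⟩
  -- standard monomials
  have stdA : ∀ δ : Fin (n + 1) →₀ ℕ, (∀ i : Fin c, δ (av n i) = 0) → δ ∉ exps I := fun δ h hm => by
    obtain ⟨⟨i, j⟩, hle⟩ := (hG.iff δ).1 hm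
    have := hle (av n i)
    simp [G, hab i j, h i] at this
  have stdB : ∀ δ : Fin (n + 1) →₀ ℕ, (∀ j : Fin d, δ (bv n j) = 0) → δ ∉ exps I := fun δ h hm => by
    obtain ⟨⟨i, j⟩, hle⟩ := (hG.iff δ).1 hm
    have := hle (bv n j)
    simp [G, (hab i j).symm, h j] at this
  have mem2 : ∀ (δ : Fin (n + 1) →₀ ℕ) (i : Fin c) (j : Fin d), 1 ≤ δ (av n i) → 1 ≤ δ (bv n j) → δ ∈ exps I :=
    fun δ i j h1 h2 => (hG.iff δ).2 ⟨(i, j), (pair_le _ _ _).2 (Or.inr ⟨hab i j, h1, h2⟩)⟩
  let NA : Finset (Fin (n + 1)) := Finset.Ici ⟨c, by omega⟩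
  let NB : Finset (Fin (n + 1)) := Finset.Iio ⟨n + 1 - d, by omega⟩
  have hNA : ∀ b ∈ NA, ∀ i : Fin c, av n i ≠ b := fun b hb i h => by
    have : c ≤ b.val := (Finset.mem_Ici (α := Fin (n + 1))).1 hb
    rw [← h, va] at this; omega
  have hNB : ∀ a ∈ NB, ∀ j : Fin d, bv n j ≠ a := fun a ha j h => by
    have : a.val < n + 1 - d := (Finset.mem_Iio (α := Fin (n + 1))).1 ha
    rw [← h, vb] at this; omega
  set i0 : Fin c := ⟨0, by omega⟩ with hi0
  set j0 : Fin d := ⟨0, by omega⟩ with hj0
  let κ : (Fin c × NA) ⊕ (Fin d × NB) → (Fin c × Fin d) × (Fin (n + 1) →₀ ℕ) :=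
    Sum.elim (fun p => ((p.1, j0), e (bv n j0) + e p.2.1)) (fun p => ((i0, p.1), e (av n i0) + e p.2.1))
  have hL : ∀ b ∈ NA, e (bv n j0) + e b ∉ exps I := fun b hb => stdA _ fun i => by
    simp [hab i j0, hNA b hb i]
  have hR : ∀ a ∈ NB, e (av n i0) + e a ∉ exps I := fun a ha => stdB _ fun j => by
    simp [(hab i0 j).symm, hNB a ha j]
  rw [Groth.Agent.H27Hilb0.finrank_deg0 hG κ Set.univ ?_ ?_]
  · simp only [Fintype.card_sum, Fintype.card_prod, Fintype.card_fin, Fintype.card_coe, NA, NB, Fin.card_Ici,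
      Fin.card_Iio]
    rw [show n + 1 - c = n - c + 1 by omega, show n + 1 - d = n - d + 1 by omega]
  · rintro φ - hz ⟨i, j⟩ δ hδ hdeg
    replace hdeg : Finsupp.degree δ = 2 := by simpa [G] using hdeg
    by_cases hA : ∀ i : Fin c, δ (av n i) = 0
    · have hzL : ∀ i ε, (∀ l : Fin c, ε (av n l) = 0) → 1 ≤ ε (bv n j0) → Finsupp.degree ε = 2 →
          coef hG (i, j0) ε φ = 0 := by
        intro i ε eA e1 ed
        obtain ⟨s, rfl⟩ := exists_eq_pair ed e1
        have hs : s ∈ NA := (Finset.mem_Ici (α := Fin (n + 1))).2 <| by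
          show c ≤ s.val
          by_contra h
          obtain ⟨l, rfl⟩ := isA s (by omega)
          have := eA l
          simp at this
        exact hz (Sum.inl (i, ⟨s, hs⟩))
      by_cases hj : j = j0
      · subst hj
        by_cases h1 : 1 ≤ δ (bv n j0)
        · exact hzL i δ hA h1 hdeg
        set j' : Fin d := ⟨1, by omega⟩ with hj'
        have hne : bv n j' ≠ bv n j0 := fun h => by have := congrArg Fin.val (binj _ _ h); simp [hj', hj0] at this
        refine rel_zero hG φ (u := e (bv n j')) (w := e (bv n j0)) (j := (i, j')) (by simp [G]; abel) ?_ ?_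
        · exact stdA _ fun l => by simp [hA l, hab l j']
        · intro h
          have := h (bv n j0)
          simp [hne.symm] at this
          omega
      · have hne : bv n j ≠ bv n j0 := fun h => hj (binj _ _ h)
        refine rel_shift hG φ (u := e (bv n j0)) (w := e (bv n j)) (j := (i, j0)) (by simp [G]; abel) ?_ fun hle => ?_
        · exact stdA _ fun l => by simp [hA l, hab l j0]
        · refine hzL i _ (fun l => by simp [hA l, hab l j0]) (by simp [hne.symm]) ?_
          have := congrArg Finsupp.degree (tsub_add_cancel_of_le hle)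
          simp only [map_add, Finsupp.degree_single, hdeg] at this
          omega
    · obtain ⟨l, hl⟩ := not_forall.1 hA
      have hB : ∀ j : Fin d, δ (bv n j) = 0 := fun j => by
        by_contra h
        exact hδ (mem2 δ l j (Nat.one_le_iff_ne_zero.2 hl) (Nat.one_le_iff_ne_zero.2 h))
      have hzR : ∀ j ε, (∀ l : Fin d, ε (bv n l) = 0) → 1 ≤ ε (av n i0) → Finsupp.degree ε = 2 →
          coef hG (i0, j) ε φ = 0 := by
        intro j ε eB e1 ed
        obtain ⟨s, rfl⟩ := exists_eq_pair ed e1
        have hs : s ∈ NB := (Finset.mem_Iio (α := Fin (n + 1))).2 <| by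
          show s.val < n + 1 - d
          by_contra h
          obtain ⟨l, rfl⟩ := isB s (by omega)
          have := eB l
          simp at this
        exact hz (Sum.inr (j, ⟨s, hs⟩))
      by_cases hi : i = i0
      · subst hi
        by_cases h1 : 1 ≤ δ (av n i0)
        · exact hzR j δ hB h1 hdeg
        set i' : Fin c := ⟨1, by omega⟩ with hi'
        have hne : av n i' ≠ av n i0 := fun h => by have := congrArg Fin.val (ainj _ _ h); simp [hi', hi0] at this
        refine rel_zero hG φ (u := e (av n i')) (w := e (av n i0)) (j := (i', j)) (by simp [G]; abel) ?_ ?_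
        · exact stdB _ fun l => by simp [hB l, (hab i' l).symm]
        · intro h
          have := h (av n i0)
          simp [hne.symm] at this
          omega
      · have hne : av n i ≠ av n i0 := fun h => hi (ainj _ _ h)
        refine rel_shift hG φ (u := e (av n i0)) (w := e (av n i)) (j := (i0, j)) (by simp [G]; abel) ?_ fun hle => ?_
        · exact stdB _ fun l => by simp [hB l, (hab i0 l).symm]
        · refine hzR j _ (fun l => by simp [hB l, (hab i0 l).symm]) (by simp [hne.symm]) ?_
          have := congrArg Finsupp.degree (tsub_add_cancel_of_le hle)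
          simp only [map_add, Finsupp.degree_single, hdeg] at this
          omega
  · rintro (⟨i, b, hb⟩ | ⟨j, a, ha⟩)
    · obtain ⟨φ, hφ, hv⟩ := exists_block hG (fun x => x.1 = i) (e (av n i)) (e b) (by simp)
        (by rintro ⟨_, j⟩ rfl; simp only [G]; exact le_self_add) (by
        rintro ⟨i₂, j⟩ ⟨i', j'⟩ h hx
        simp only at h hx
        subst i₂
        refine mem2 _ i' j' ?_ ?_
        · have hne : av n i ≠ av n i' := fun h => hx (ainj _ _ h).symm
          simp [G, hne.symm]; omega
        · simp [G, (hab i j').symm]; omega)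
      refine ⟨φ, hφ, (hv _ _ (hL b hb)).trans (if_pos ⟨rfl, by simp only [κ, Sum.elim_inl, G, add_tsub_cancel_left]⟩), fun b' hb' _ => ?_⟩
      rcases b' with ⟨i', b'⟩ | ⟨j', a'⟩
      · refine (hv _ _ (hL _ b'.2)).trans (if_neg fun h => hb' ?_)
        obtain ⟨h1, h2⟩ := h
        simp only [κ, Sum.elim_inl] at h1 h2
        subst h1
        rw [G, add_tsub_cancel_left] at h2
        rw [show b' = ⟨b, hb⟩ from Subtype.ext (single_one_injective (add_left_cancel h2)).symm]
      · refine (hv _ _ (hR _ a'.2)).trans (if_neg fun h => ?_)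
        obtain ⟨h1, h2⟩ := h
        simp only [κ, Sum.elim_inr] at h1 h2
        subst h1
        rw [G, add_tsub_cancel_left] at h2
        have := DFunLike.congr_fun h2 (av n i0)
        simp [hab i0 j', (hNA b hb i0)] at this
        omega
    · obtain ⟨φ, hφ, hv⟩ := exists_block hG (fun x => x.2 = j) (e (bv n j)) (e a) (by simp)
        (by rintro ⟨i, _⟩ rfl; simp only [G]; exact le_add_self) (by
        rintro ⟨i, j₂⟩ ⟨i', j'⟩ h hx
        simp only at h hx
        subst j₂
        refine mem2 _ i' j' ?_ ?_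
        · simp [G, hab i' j]; omega
        · have hne : bv n j ≠ bv n j' := fun h => hx (binj _ _ h).symm
          simp [G, hne.symm]; omega)
      refine ⟨φ, hφ, (hv _ _ (hR a ha)).trans (if_pos ⟨rfl, by simp only [κ, Sum.elim_inr, G, add_tsub_cancel_right]⟩), fun b' hb' _ => ?_⟩
      rcases b' with ⟨i', b'⟩ | ⟨j', a'⟩
      · refine (hv _ _ (hL _ b'.2)).trans (if_neg fun h => ?_)
        obtain ⟨h1, h2⟩ := h
        simp only [κ, Sum.elim_inl] at h1 h2
        subst h1
        rw [G, add_tsub_cancel_right] at h2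
        have := DFunLike.congr_fun h2 (bv n j0)
        simp [(hab i' j0).symm, (hNB a ha j0)] at this
        omega
      · refine (hv _ _ (hR _ a'.2)).trans (if_neg fun h => hb' ?_)
        obtain ⟨h1, h2⟩ := h
        simp only [κ, Sum.elim_inr] at h1 h2
        subst h1
        rw [G, add_tsub_cancel_right] at h2
        rw [show a' = ⟨a, ha⟩ from Subtype.ext (single_one_injective (add_left_cancel h2)).symm]

theorem isGen_span (k : Type*) [Field k] (n c d : ℕ) (hc : c ≤ n) (hd : d ≤ n) :
    IsGen (Ideal.span {f : MvPolynomial (Fin (n + 1)) k | ∃ i j : Fin (n + 1), i.val + 1 ≤ c ∧ n + 1 ≤ j.val + d ∧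
      f = MvPolynomial.X i * MvPolynomial.X j}) (G n c d) := by
  have hv : ∀ x : Fin c × Fin d, monomial (G n c d x) (1 : k) = X (av n x.1) * X (bv n x.2) := fun x => by
    simp [G, X, monomial_mul]
  have hgen : {f : MvPolynomial (Fin (n + 1)) k | ∃ i j : Fin (n + 1), i.val + 1 ≤ c ∧ n + 1 ≤ j.val + d ∧
      f = MvPolynomial.X i * MvPolynomial.X j} = Set.range fun x => monomial (G n c d x) (1 : k) := by
    ext f
    constructor
    · rintro ⟨i, j, hi, hj, rfl⟩
      refine ⟨(⟨i.val, by omega⟩, ⟨j.val + d - (n + 1), by omega⟩), (hv _).trans ?_⟩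
      rw [show av n (⟨i.val, by omega⟩ : Fin c) = i from Fin.ext (val_av hc _),
        show bv n (⟨j.val + d - (n + 1), by omega⟩ : Fin d) = j from
          Fin.ext (by rw [val_bv hd]; show n + 1 - d + (j.val + d - (n + 1)) = j.val; omega)]
    · rintro ⟨x, rfl⟩
      exact ⟨av n x.1, bv n x.2, by rw [val_av hc]; omega, by rw [val_bv hd]; omega, hv x⟩
  rw [hgen]
  exact IsGen.of_span (G n c d)

end Groth.Agent.H27Hilb0.TwoPlanes
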